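import Cfsg.Agent.Lib.QuadraticPair.Coprime.Orbit

/-!
# A fixed nonidentity element in a fixed root
-/

set_option linter.all false
set_option autoImplicit false

namespace Cfsg.Agent.QuadraticPair.Coprime

open Cfsg Cfsg.Agent.QuadraticPair

universe u

variable {k : Type u} [Field k] {M : Type*} [AddCommGroup M] [Module k M] [FiniteDimensional k M]
  {G : Subgroup (LinearMap.GeneralLinearGroup k M)} {a d : Module.End k M}

/-- `s d s` determines `s` up to sign. -/
theorem sq_fibre [Finite M] (S : Base G) (ha : Min G a) (hd : Min G d) (ho : Opp a d) {s t : Module.End k M}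
    (hs : s ∈ opSpace ha.toAdm) (ht : t ∈ opSpace ha.toAdm) (h : s * d * s = t * d * t) : t = s ∨ t = -s := by
  have h2 := two_ne S.two
  set W := LinearMap.range a
  have hmap : ∀ y ∈ opSpace ha.toAdm, ∀ m ∈ W, (y * d) m ∈ W := fun y hy m _ => hy.2.1 ⟨d m, rfl⟩
  let ρ : opSpace ha.toAdm →ₗ[k] Module.End k W :=
    { toFun := fun y => ((y : Module.End k M) * d).restrict (hmap y y.2)
      map_add' := fun y z => LinearMap.ext fun m => Subtype.ext (by simp [add_mul])
      map_smul' := fun c y => LinearMap.ext fun m => Subtype.ext (by simp [smul_mul_assoc]) }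
  have hρ : ∀ y m, ((ρ y m : W) : M) = (y : Module.End k M) (d (m : M)) := fun _ _ => rfl
  have hone : ρ ⟨a, self_mem_opSpace _⟩ = 1 := by
    refine LinearMap.ext fun ⟨m, w, hw⟩ => Subtype.ext ?_
    subst hw
    rw [hρ]
    exact LinearMap.congr_fun ho.left w
  have hinj : ∀ y, ρ y = 0 → y = 0 := fun y hy => Subtype.ext (by
    obtain ⟨-, p2, -, -⟩ := proj ha ho y.2
    have e : (y : Module.End k M) * d * a = 0 := LinearMap.ext fun m =>
      congrArg Subtype.val (LinearMap.congr_fun hy ⟨a m, ⟨m, rfl⟩⟩)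
    rw [← p2, ← mul_assoc, e]; rfl)
  haveI : Finite (Module.End k W) := Finite.of_injective _ DFunLike.coe_injective
  haveI : Nontrivial (Module.End k W) := ⟨⟨1, 0, fun e => ha.ne (LinearMap.ext fun m =>
    congrArg Subtype.val (LinearMap.congr_fun e ⟨a m, ⟨m, rfl⟩⟩))⟩⟩
  have hsd : ∀ y ∈ opSpace ha.toAdm, y * d * y ∈ opSpace ha.toAdm := by
    intro y hy
    rcases eq_or_ne y 0 with rfl | hy0
    · simp
    obtain ⟨hm, hR, hK⟩ := min_of_mem ha hy hy0
    obtain ⟨P⟩ := exists_pair S.two S.three hm hd (by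
      rintro ⟨n, hn⟩
      have := aba_of_mem S ha hd hy hy0 (nil_aba S.two n hm hd hn).1
      rw [ho.left] at this
      exact ha.ne this)
    have := P.aba_mem S.two S.three
    rwa [opSpace_congr ha.toAdm P.minL.toAdm hR hK] at this
  have key := eq_or_eq_neg_of_sq_eq h2 (LinearMap.range ρ) ⟨_, hone⟩ ?_ ?_ (u := ρ ⟨s, hs⟩) (t := ρ ⟨t, ht⟩)
    ⟨_, rfl⟩ ⟨_, rfl⟩ ?_
  · rcases key with e | e
    · exact Or.inl (congrArg Subtype.val (sub_eq_zero.1 (hinj (⟨t, ht⟩ - ⟨s, hs⟩) (by rw [map_sub, e, sub_self]))))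
    · exact Or.inr (congrArg Subtype.val
        (eq_neg_of_add_eq_zero_left (hinj (⟨t, ht⟩ + ⟨s, hs⟩) (by rw [map_add, e, neg_add_cancel]))))
  · rintro _ ⟨y, rfl⟩
    refine ⟨⟨_, hsd y y.2⟩, LinearMap.ext fun m => Subtype.ext ?_⟩
    rfl
  · rintro _ ⟨y, rfl⟩ hy0
    have hy' : (y : Module.End k M) ≠ 0 := fun e => hy0 (by rw [show y = 0 from Subtype.ext e, map_zero])
    obtain ⟨y', hy'm, ho', e1, e2⟩ := exists_opp_mem S ha hd ho y.2 hy'
    rw [Module.End.isUnit_iff]
    refine Finite.injective_iff_bijective.1 ?_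
    rw [← LinearMap.ker_eq_bot, eq_bot_iff]
    rintro ⟨m, w, hw⟩ hm
    have h0 : (y : Module.End k M) (d m) = 0 := congrArg Subtype.val hm
    rw [Submodule.mem_bot]
    refine Subtype.ext ?_
    show m = 0
    have h1 : (d * a) (d m) = 0 := by rw [← e2, Module.End.mul_apply, h0, map_zero]
    subst hw
    have h3 : d (a w) = 0 := by
      rw [← LinearMap.congr_fun ho.right (a w)]; exact h1
    rw [← LinearMap.congr_fun ho.left w]
    show a (d (a w)) = 0
    rw [h3, map_zero]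
  · refine LinearMap.ext fun m => Subtype.ext ?_
    show (s * d * s) (d m) = (t * d * t) (d m)
    rw [h]

/-- The Weyl element of a member. -/
theorem weyl_elt [Finite M] (S : Base G) (ha : Min G a) (hd : Min G d) (ho : Opp a d) {s s' : Module.End k M}
    (hs : s ∈ opSpace ha.toAdm) (hs' : s' ∈ opSpace hd.toAdm) (ho' : Opp s s') (h1 : s * s' = a * d)
    (h2 : s' * s = d * a) :
    ∃ n ∈ root ha.toAdm ⊔ root hd.toAdm, conjBy (root ha.toAdm) n = root hd.toAdm ∧
      conjBy (root hd.toAdm) n = root ha.toAdm ∧ ∀ y ∈ opSpace hd.toAdm, cj n y = -(s * y * s) := by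
  have hss : s * s = 0 := mul_zero_of_mem ha.toAdm hs hs
  have hss' : s' * s' = 0 := mul_zero_of_mem hd.toAdm hs' hs'
  set n := ex hs.1.sq 1 * (ex hs'.1.sq 1)⁻¹ * ex hs.1.sq 1 with hn
  have hmem : n ∈ root ha.toAdm ⊔ root hd.toAdm := mul_mem (mul_mem
    (Subgroup.mem_sup_left (ex_mem_root _ hs 1)) (inv_mem (Subgroup.mem_sup_right (ex_mem_root _ hs' 1))))
    (Subgroup.mem_sup_left (ex_mem_root _ hs 1))
  have hnv : (n : Module.End k M) = 1 - a * d - d * a + s - s' := by
    rw [hn, Units.val_mul, Units.val_mul, coe_ex, coe_ex_inv, one_smul, one_smul]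
    simp only [add_mul, mul_add, mul_sub, sub_mul, one_mul, mul_one, ho'.left, hss]
    rw [h1, h2]; abel
  have hni : ((n⁻¹ : LinearMap.GeneralLinearGroup k M) : Module.End k M) = 1 - a * d - d * a - s + s' := by
    rw [show n⁻¹ = (ex hs.1.sq 1)⁻¹ * ex hs'.1.sq 1 * (ex hs.1.sq 1)⁻¹ by rw [hn]; group,
      Units.val_mul, Units.val_mul, coe_ex, coe_ex_inv, one_smul, one_smul]
    simp only [add_mul, mul_add, mul_sub, sub_mul, one_mul, mul_one, ho'.left, hss]
    rw [h1, h2]; abel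
  have hG : n ∈ G := (sup_le (root_le _) (root_le _) : root ha.toAdm ⊔ root hd.toAdm ≤ G) hmem
  have hAB := conj_swap ha hd ho hG hs hs' hnv hni
  have hBA := conj_swap hd ha ho.symm (inv_mem hG) hs' hs (by rw [hni]; abel) (by rw [inv_inv, hnv]; abel)
  haveI := gl_finite (k := k) (M := M)
  have hc : Nat.card (root ha.toAdm) ≤ Nat.card (root hd.toAdm) ∧ Nat.card (root hd.toAdm) ≤ Nat.card (root ha.toAdm) := by
    constructor
    · rw [← Subgroup.card_map_of_injective (K := root ha.toAdm) (f := (MulAut.conj n).toMonoidHom) (MulAut.conj n).injective]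
      exact Subgroup.card_le_of_le hAB
    · rw [← Subgroup.card_map_of_injective (K := root hd.toAdm) (f := (MulAut.conj n⁻¹).toMonoidHom) (MulAut.conj n⁻¹).injective]
      exact Subgroup.card_le_of_le hBA
  have e1 : conjBy (root ha.toAdm) n = root hd.toAdm := Subgroup.eq_of_le_of_card_ge hAB (by
    rw [Subgroup.card_map_of_injective (MulAut.conj n).injective]; exact hc.2)
  have hmem' : ∀ y ∈ opSpace hd.toAdm, cj n y = -(s * y * s) := by
    intro y hy
    obtain ⟨p1, p2, p3, p4⟩ := proj hd ho.symm hy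
    have x1 : (n : Module.End k M) * y = s * y := by
      rw [hnv]; simp only [sub_mul, add_mul, one_mul, p1, p3, mul_zero_of_mem hd.toAdm hs' hy]; abel
    have x2 : y * ((n⁻¹ : LinearMap.GeneralLinearGroup k M) : Module.End k M) = -(y * s) := by
      rw [hni]; simp only [mul_sub, mul_add, mul_one, p2, p4, mul_zero_of_mem hd.toAdm hy hs']; abel
    rw [cj, x1, mul_assoc, x2, mul_neg, ← mul_assoc]
  refine ⟨n, hmem, e1, ?_, hmem'⟩
  have e2 := conj_swap (G := G) hd ha ho.symm (n := n) hG (neg_mem hs') (neg_mem hs) (by rw [hnv]; abel) (by rw [hni]; abel)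
  exact Subgroup.eq_of_le_of_card_ge e2 (by
    rw [Subgroup.card_map_of_injective (MulAut.conj n).injective]; exact hc.1)

/-- The elements of `L` normalizing both roots. -/
def torus (L : Subgroup (LinearMap.GeneralLinearGroup k M)) (A B : Subgroup (LinearMap.GeneralLinearGroup k M)) :
    Subgroup (LinearMap.GeneralLinearGroup k M) :=
  L ⊓ Subgroup.normalizer (A : Set (LinearMap.GeneralLinearGroup k M)) ⊓
    Subgroup.normalizer (B : Set (LinearMap.GeneralLinearGroup k M))

/-- An orbit of the torus is at least half of the root. -/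
theorem orbit_large [Finite M] (S : Base G) (ha : Min G a) (hd : Min G d) (ho : Opp a d)
    {L : Subgroup (LinearMap.GeneralLinearGroup k M)} (hL : root ha.toAdm ⊔ root hd.toAdm ≤ L)
    {e : LinearMap.GeneralLinearGroup k M} (he : e ∈ root ha.toAdm) (he1 : e ≠ 1) :
    {x | x ∈ root ha.toAdm ∧ x ≠ 1}.ncard ≤
      2 * {x | ∃ t ∈ torus L (root ha.toAdm) (root hd.toAdm), x = t * e * t⁻¹}.ncard := by
  classical
  haveI := gl_finite (k := k) (M := M)
  have opne : ∀ {x : LinearMap.GeneralLinearGroup k M}, x ≠ 1 → op x ≠ 0 := fun hx h0 =>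
    hx (Units.ext (by simpa [op, sub_eq_zero] using h0))
  obtain ⟨hy, hR, hK⟩ := min_of_mem ha (mem_root.1 he) (opne he1)
  obtain ⟨y', hy'm, hoy, h1, h2⟩ := exists_opp_mem S ha hd ho (mem_root.1 he) (opne he1)
  have hy'0 : y' ≠ 0 := fun h => hy.ne (by rw [← hoy.left, h, mul_zero, zero_mul])
  obtain ⟨hd', hR', hK'⟩ := min_of_mem hd hy'm hy'0
  have ea : root hy.toAdm = root ha.toAdm := root_eq_of_mem ha (mem_root.1 he) (opne he1)
  have ed : root hd'.toAdm = root hd.toAdm := root_eq_of_mem hd hy'm hy'0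
  have hL' : root hy.toAdm ⊔ root hd'.toAdm ≤ L := by rw [ea, ed]; exact hL
  rw [← ea, ← ed]
  set y := op e with hye
  -- base the pair at `y`
  set X := {x | x ∈ root hy.toAdm ∧ x ≠ 1}
  set O := {x | ∃ t ∈ torus L (root hy.toAdm) (root hd'.toAdm), x = t * e * t⁻¹}
  let f : LinearMap.GeneralLinearGroup k M → Module.End k M := fun x => op x * y' * op x
  have hfO : ∀ x ∈ X, ∃ z ∈ O, op z = f x := by
    rintro x ⟨hx, hx1⟩
    obtain ⟨s', hs', hso, g1, g2⟩ := exists_opp_mem S hy hd' hoy (mem_root.1 hx) (opne hx1)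
    obtain ⟨n, hn, n1, n2, nf⟩ := weyl_elt S hy hd' hoy (mem_root.1 hx) hs' hso g1 g2
    obtain ⟨m, hm, m1, m2, mf⟩ := weyl_elt S hd' hy hoy.symm (self_mem_opSpace _) (self_mem_opSpace _) hoy.symm rfl rfl
    refine ⟨n * m * e * (n * m)⁻¹, ⟨n * m, ⟨⟨hL' (Subgroup.mul_mem (root hy.toAdm ⊔ root hd'.toAdm) hn ((sup_comm (root hd'.toAdm) (root hy.toAdm)).le hm)), ?_⟩, ?_⟩, rfl⟩, ?_⟩
    · show n * m ∈ Subgroup.normalizer _
      rw [← ThreeTransp.RankOne.conjBy_eq_iff, ← ThreeTransp.RankOne.conjBy_conjBy, m2, n2]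
    · show n * m ∈ Subgroup.normalizer _
      rw [← ThreeTransp.RankOne.conjBy_eq_iff, ← ThreeTransp.RankOne.conjBy_conjBy, m1, n1]
    · rw [op_conj, ← hye, ← cj_cj, mf y (self_mem_opSpace _)]
      show cj n (-(y' * y * y')) = _
      rw [hoy.right, ← neg_one_smul k, cj_smul, nf y' (self_mem_opSpace _), neg_one_smul, neg_neg]
  have hfin : X.Finite := Set.toFinite _
  rw [Set.ncard_eq_toFinset_card X hfin]
  calc hfin.toFinset.card ≤ 2 * (hfin.toFinset.image f).card := by
        refine Finset.card_le_mul_card_image _ 2 fun z hz => ?_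
        obtain ⟨x₀, hx₀, rfl⟩ := Finset.mem_image.1 hz
        rw [Set.Finite.mem_toFinset] at hx₀
        refine (Finset.card_le_card (t := {x₀, x₀⁻¹}) fun x hx => ?_).trans Finset.card_le_two
        rw [Finset.mem_filter, Set.Finite.mem_toFinset] at hx
        obtain ⟨⟨hxm, -⟩, hfx⟩ := hx
        rcases sq_fibre S hy hd' hoy (mem_root.1 hx₀.1) (mem_root.1 hxm) hfx.symm with e | e
        · exact Finset.mem_insert.2 (Or.inl (Units.ext (sub_left_injective e)))
        · refine Finset.mem_insert.2 (Or.inr (Finset.mem_singleton.2 (eq_inv_of_mul_eq_one_left (Units.ext ?_))))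
          have h0 := mul_zero_of_mem hy.toAdm (mem_root.1 hxm) (mem_root.1 hx₀.1)
          have ex' : (x : Module.End k M) = 1 + op x := by simp [op]
          have ex₀ : (x₀ : Module.End k M) = 1 + op x₀ := by simp [op]
          rw [Units.val_mul, ex', ex₀, Units.val_one]
          simp only [mul_add, add_mul, one_mul, mul_one, h0, add_zero]
          rw [e]
          abel
    _ ≤ 2 * O.ncard := by
        refine Nat.mul_le_mul_left 2 ?_
        rw [← Set.ncard_coe_finset]
        refine le_trans (Set.ncard_le_ncard ?_ (Set.toFinite _)) (Set.ncard_image_le (f := op) (Set.toFinite O))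
        intro z hz
        obtain ⟨x, hx, rfl⟩ := Finset.mem_image.1 hz
        rw [Set.Finite.mem_toFinset] at hx
        exact hfO x hx

/-- A coprime group of odd order fixing two opposite roots fixes a nonidentity element of the first. -/
theorem exists_fixed_elt [Finite M] (S : Base G) (ha : Min G a) (hd : Min G d) (ho : Opp a d)
    {L A : Subgroup (LinearMap.GeneralLinearGroup k M)} (hL : root ha.toAdm ⊔ root hd.toAdm ≤ L)
    (hAL : A ≤ Subgroup.normalizer (L : Set (LinearMap.GeneralLinearGroup k M)))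
    (hAa : A ≤ Subgroup.normalizer ((root ha.toAdm : Subgroup _) : Set (LinearMap.GeneralLinearGroup k M)))
    (hAd : A ≤ Subgroup.normalizer ((root hd.toAdm : Subgroup _) : Set (LinearMap.GeneralLinearGroup k M)))
    (hcop : (Nat.card A).Coprime (Nat.card L)) (hodd : Odd (Nat.card A)) (hsolv : Group.IsSolvable A) :
    ∃ e ∈ root ha.toAdm, e ≠ 1 ∧ ∀ x ∈ A, x * e = e * x := by
  classical
  haveI := gl_finite (k := k) (M := M)
  set T := torus L (root ha.toAdm) (root hd.toAdm)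
  have hTa : T ≤ Subgroup.normalizer ((root ha.toAdm : Subgroup _) : Set (LinearMap.GeneralLinearGroup k M)) :=
    inf_le_left.trans inf_le_right
  have hTL : T ≤ L := inf_le_left.trans inf_le_left
  have hAT : A ≤ Subgroup.normalizer (T : Set (LinearMap.GeneralLinearGroup k M)) := by
    intro x hx
    refine mem_normalizer_fin fun t ⟨⟨h0, h1⟩, h2⟩ => ⟨⟨(Subgroup.mem_normalizer_iff.1 (hAL hx) t).1 h0,
      Subgroup.mul_mem _ (Subgroup.mul_mem _ (hAa hx) h1) (Subgroup.inv_mem _ (hAa hx))⟩, Subgroup.mul_mem _ (Subgroup.mul_mem _ (hAd hx) h2) (Subgroup.inv_mem _ (hAd hx))⟩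
  obtain ⟨e, he, he1⟩ := (Subgroup.bot_or_exists_ne_one _).resolve_left (root_ne_bot ha)
  let O : LinearMap.GeneralLinearGroup k M → Set (LinearMap.GeneralLinearGroup k M) :=
    fun e => {x | ∃ t ∈ T, x = t * e * t⁻¹}
  set X := {x | x ∈ root ha.toAdm ∧ x ≠ 1}
  have hOX : ∀ {e}, e ∈ X → O e ⊆ X := by
    rintro e ⟨he, he1⟩ _ ⟨t, ht, rfl⟩
    exact ⟨(Subgroup.mem_normalizer_iff.1 (hTa ht) e).1 he, fun h => he1 (conj_eq_one_iff.1 h)⟩
  have hsymm : ∀ {u v}, u ∈ O v → O u = O v := by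
    rintro u v ⟨t, ht, rfl⟩
    ext x
    constructor
    · rintro ⟨s, hs, rfl⟩; exact ⟨s * t, mul_mem hs ht, by group⟩
    · rintro ⟨s, hs, rfl⟩; exact ⟨s * t⁻¹, mul_mem hs (inv_mem ht), by group⟩
  have hself : ∀ u, u ∈ O u := fun u => ⟨1, one_mem _, by group⟩
  have himg : ∀ x ∈ A, ∀ {u v}, u ∈ O v → x * u * x⁻¹ ∈ O (x * v * x⁻¹) := by
    rintro x hx u v ⟨t, ht, rfl⟩
    exact ⟨x * t * x⁻¹, (Subgroup.mem_normalizer_iff.1 (hAT hx) t).1 ht, by group⟩
  have hXA : ∀ x ∈ A, ∀ {u}, u ∈ X → x * u * x⁻¹ ∈ X := fun x hx u hu =>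
    ⟨(Subgroup.mem_normalizer_iff.1 (hAa hx) u).1 hu.1, fun h => hu.2 (conj_eq_one_iff.1 h)⟩
  -- the elements moving the orbit into itself
  let St : Subgroup (LinearMap.GeneralLinearGroup k M) :=
    { carrier := {x | x ∈ A ∧ x * e * x⁻¹ ∈ O e}
      one_mem' := ⟨one_mem _, by simpa using hself e⟩
      mul_mem' := fun {x y} ⟨hx, hx'⟩ ⟨hy, hy'⟩ => ⟨mul_mem hx hy, by
        have := himg x hx hy'
        rw [hsymm hx'] at this
        simpa [mul_assoc] using this⟩
      inv_mem' := fun {x} ⟨hx, hx'⟩ => ⟨inv_mem hx, by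
        have := himg x⁻¹ (inv_mem hx) hx'
        rw [show x⁻¹ * (x * e * x⁻¹) * x⁻¹⁻¹ = e by group] at this
        exact (hsymm this).symm.le (hself _)⟩ }
  have hsq : ∀ x ∈ A, x * x ∈ St := by
    intro x hx
    refine ⟨mul_mem hx hx, ?_⟩
    by_contra hn
    set e₁ := x * e * x⁻¹ with he₁
    have hnot : e₁ ∉ O e := fun h => hn (by
      have := himg x hx h
      rw [hsymm h] at this
      simpa [he₁, mul_assoc] using this)
    have hdisj : Disjoint (O e) (O e₁) := Set.disjoint_left.2 fun z hz hz' => hnot ((hsymm hz).symm.trans (hsymm hz') ▸ hself e₁)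
    have h1 := orbit_large S ha hd ho hL he he1
    have h2 := orbit_large S ha hd ho hL (hXA x hx ⟨he, he1⟩).1 (hXA x hx ⟨he, he1⟩).2
    have hU : O e ∪ O e₁ = X := by
      refine Set.eq_of_subset_of_ncard_le (Set.union_subset (hOX ⟨he, he1⟩) (hOX (hXA x hx ⟨he, he1⟩))) ?_ (Set.toFinite _)
      rw [Set.ncard_union_eq hdisj]
      change X.ncard ≤ 2 * (O e).ncard at h1
      change X.ncard ≤ 2 * (O e₁).ncard at h2
      omega
    have hmem : x * e₁ * x⁻¹ ∈ O e ∪ O e₁ := hU.symm ▸ hXA x hx (hXA x hx ⟨he, he1⟩)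
    rcases hmem with h | h
    · exact hn (by simpa [he₁, mul_assoc] using h)
    · refine hnot ?_
      have := himg x⁻¹ (inv_mem hx) h
      rw [show x⁻¹ * (x * e₁ * x⁻¹) * x⁻¹⁻¹ = e₁ by group, show x⁻¹ * e₁ * x⁻¹⁻¹ = e by rw [he₁]; group] at this
      exact this
  have hall : ∀ x ∈ A, x ∈ St := by
    intro x hx
    obtain ⟨j, hj⟩ := hodd
    have : x = (x * x) ^ (j + 1) := by
      have h1 : x ^ Nat.card A = 1 := congrArg Subtype.val (pow_card_eq_one' (x := (⟨x, hx⟩ : A)))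
      rw [← pow_two, ← pow_mul, show 2 * (j + 1) = 2 * j + 1 + 1 by ring, ← hj, pow_succ, h1, one_mul]
    rw [this]
    exact pow_mem (hsq x hx) _
  obtain ⟨t, ht, hfix⟩ := exists_conj_fixed hAT (hcop.coprime_dvd_right (Subgroup.card_dvd_of_le hTL)) (Or.inl hsolv)
    (fun x hx => (hall x hx).2)
  exact ⟨t * e * t⁻¹, (hOX ⟨he, he1⟩ ⟨t, ht, rfl⟩).1, (hOX ⟨he, he1⟩ ⟨t, ht, rfl⟩).2, hfix⟩

end Cfsg.Agent.QuadraticPair.Coprime
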