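import Cfsg.Agent.Lib.QuadraticPair.Coprime.Main
import Cfsg.Agent.Lib.Fusion.LocalModels
import Cfsg.Agent.Lib.QuadraticPair.WordsField

/-!
# A minimal normal elementary subgroup with a quadratic element
-/

set_option linter.all false
set_option autoImplicit false

namespace Cfsg.Agent.QuadraticPair.Coprime

open Cfsg Cfsg.Agent.QuadraticPair Cfsg.Agent.Forms

universe u v

/-- Clifford: a normal subgroup of an irreducible group has complements. -/
theorem hasComplements_of_normalized {k : Type u} [Field k] {M : Type v} [AddCommGroup M] [Module k M]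
    [FiniteDimensional k M] {G H : Subgroup (LinearMap.GeneralLinearGroup k M)}
    (hHG : H ≤ Subgroup.normalizer (G : Set (LinearMap.GeneralLinearGroup k M))) (hirr : IsIrreducibleFor H) :
    HasComplements G := by
  intro V hV
  let Inv : Submodule k M → Prop := fun W => ∀ g ∈ G, ∀ w ∈ W, (g : Module.End k M) w ∈ W
  have hInf : ∀ {W W'}, Inv W → Inv W' → Inv (W ⊓ W') := fun hW hW' g hg w hw =>
    ⟨hW g hg w hw.1, hW' g hg w hw.2⟩
  have hSup : ∀ {W W'}, Inv W → Inv W' → Inv (W ⊔ W') := by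
    intro W W' hW hW' g hg w hw
    obtain ⟨x, hx, y, hy, rfl⟩ := Submodule.mem_sup.1 hw
    rw [map_add]
    exact add_mem (Submodule.mem_sup_left (hW g hg x hx)) (Submodule.mem_sup_right (hW' g hg y hy))
  have htopne : (⊤ : Submodule k M) ≠ ⊥ := by
    obtain ⟨m, hm⟩ := hirr.1
    exact fun e => hm ((Submodule.mem_bot k).1 (e ▸ Submodule.mem_top))
  obtain ⟨S₀, ⟨hS₀, hS₀0⟩, hmin⟩ := (wellFounded_lt (α := Submodule k M)).has_min {W | Inv W ∧ W ≠ ⊥}
    ⟨⊤, fun _ _ _ _ => Submodule.mem_top, htopne⟩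
  have hmin' : ∀ W ≤ S₀, Inv W → W = ⊥ ∨ W = S₀ := fun W hW hi =>
    (em (W = ⊥)).imp id fun h0 => eq_of_le_of_not_lt hW (hmin W ⟨hi, h0⟩)
  -- translates of the minimal invariant subspace
  have htr : ∀ h ∈ H, Inv (S₀.map (h : Module.End k M)) ∧
      ∀ W ≤ S₀.map (h : Module.End k M), Inv W → W = ⊥ ∨ W = S₀.map (h : Module.End k M) := by
    intro h hh
    have hinj : Function.Injective (h : Module.End k M) := fun x y e => by
      have := congrArg ((h⁻¹ : LinearMap.GeneralLinearGroup k M) : Module.End k M) e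
      rwa [← Module.End.mul_apply, ← Module.End.mul_apply, Units.inv_mul] at this
    refine ⟨?_, fun W hW hi => ?_⟩
    · rintro g hg _ ⟨w, hw, rfl⟩
      refine ⟨_, hS₀ (h⁻¹ * g * h) (by simpa using (Subgroup.mem_normalizer_iff.1 (hHG (inv_mem hh)) g).1 hg) w hw, ?_⟩
      rw [← Module.End.mul_apply, ← Module.End.mul_apply, ← Units.val_mul, ← Units.val_mul]
      simp [mul_assoc]
    · have e : (W.comap (h : Module.End k M)).map (h : Module.End k M) = W :=
        Submodule.map_comap_eq_self (hW.trans LinearMap.map_le_range)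
      rcases hmin' (W.comap (h : Module.End k M))
        ((Submodule.comap_mono hW).trans (Submodule.comap_map_eq_of_injective hinj S₀).le) (fun g hg u hu => by
          show (h : Module.End k M) ((g : Module.End k M) u) ∈ W
          have h' := hi (h * g * h⁻¹) ((Subgroup.mem_normalizer_iff.1 (hHG hh) g).1 hg) _ hu
          rw [← Module.End.mul_apply, ← Units.val_mul, inv_mul_cancel_right, Units.val_mul] at h'
          exact h') with h0 | h0
      · exact Or.inl (by rw [← e, h0, Submodule.map_bot])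
      · exact Or.inr (by rw [← e, h0])
  obtain ⟨W, ⟨hW, hd⟩, hmax⟩ := (wellFounded_gt (α := Submodule k M)).has_min {W | Inv W ∧ Disjoint V W}
    ⟨⊥, fun g _ w hw => by rw [Submodule.mem_bot] at hw ⊢; rw [hw, map_zero], disjoint_bot_right⟩
  refine ⟨W, hW, hd, codisjoint_iff.2 ?_⟩
  have hall : ∀ h ∈ H, S₀.map (h : Module.End k M) ≤ V ⊔ W := by
    intro h hh
    obtain ⟨hi, hm⟩ := htr h hh
    rcases hm _ inf_le_left (hInf hi (hSup hV hW)) with h0 | h0
    · exfalso
      set T := S₀.map (h : Module.End k M)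
      refine hmax (W ⊔ T) ⟨hSup hW hi, ?_⟩ (lt_of_le_of_ne le_sup_left fun e => ?_)
      · exact hd.disjoint_sup_right_of_disjoint_sup_left (disjoint_iff.2 (by rwa [inf_comm]))
      · have hle : T ≤ W := e ▸ le_sup_right
        have hT0 : T = ⊥ := by rw [← h0]; exact (inf_eq_left.2 (hle.trans le_sup_right)).symm
        exact hS₀0 (Submodule.map_injective_of_injective (fun x y e' => by
          have := congrArg ((h⁻¹ : LinearMap.GeneralLinearGroup k M) : Module.End k M) e'
          rwa [← Module.End.mul_apply, ← Module.End.mul_apply, Units.inv_mul] at this)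
          (hT0.trans (Submodule.map_bot _).symm))
    · exact h0.symm.le.trans inf_le_right
  let U : Submodule k M := ⨆ h ∈ H, S₀.map (h : Module.End k M)
  have hU : ∀ h ∈ H, ∀ u ∈ U, (h : Module.End k M) u ∈ U := by
    intro h hh
    have : U ≤ U.comap (h : Module.End k M) := iSup₂_le fun h' hh' => by
      rw [← Submodule.map_le_iff_le_comap, ← Submodule.map_comp, ← Module.End.mul_eq_comp, ← Units.val_mul]
      exact le_iSup₂_of_le (h * h') (mul_mem hh hh') le_rfl
    exact this
  rcases hirr.2 U hU with h0 | h0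
  · refine absurd (le_bot_iff.1 (h0 ▸ le_trans ?_ (le_iSup₂_of_le 1 (one_mem H) le_rfl) : S₀ ≤ ⊥)) hS₀0
    exact fun x hx => ⟨x, hx, by simp⟩
  · exact top_le_iff.1 (h0.ge.trans (iSup₂_le hall))

theorem exists_min {k : Type u} [Field k] {M : Type v} [AddCommGroup M] [Module k M]
    {G : Subgroup (LinearMap.GeneralLinearGroup k M)} {x : Module.End k M} (hx : Adm G x) (hx0 : x ≠ 0) :
    ∃ a, Min G a := by
  classical
  have hex : ∃ n, ∃ y, Adm G y ∧ y ≠ 0 ∧ rk y = n := ⟨_, x, hx, hx0, rfl⟩
  obtain ⟨y, hy, hy0, hyn⟩ := Nat.find_spec hex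
  exact ⟨y, hy, hy0, fun z hz hz0 => hyn ▸ Nat.find_min' hex ⟨z, hz, hz0, rfl⟩⟩

variable {X : Type u} [Group X] [Finite X] {p : ℕ} [hp : Fact p.Prime] {F : Type v} [Field F] [Fintype F]

/-- `a` acts quadratically on `P`. -/
def Quad (P : Subgroup X) (a : X) : Prop := ∀ x ∈ P, Commute a (a * x * a⁻¹ * x⁻¹)

theorem quad_pow {a x : X} (h : Commute a (a * x * a⁻¹ * x⁻¹)) (n : ℕ) :
    a ^ n * x * (a ^ n)⁻¹ = (a * x * a⁻¹ * x⁻¹) ^ n * x := by
  induction n with
  | zero => simp
  | succ n ih =>
    set c := a * x * a⁻¹ * x⁻¹ with hc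
    have hax : a * x * a⁻¹ = c * x := by rw [hc]; group
    calc a ^ (n + 1) * x * (a ^ (n + 1))⁻¹ = a * (a ^ n * x * (a ^ n)⁻¹) * a⁻¹ := by rw [pow_succ']; group
      _ = (a * c ^ n * a⁻¹) * (a * x * a⁻¹) := by rw [ih]; group
      _ = c ^ (n + 1) * x := by rw [(h.pow_right n).eq, mul_inv_cancel_right, hax, pow_succ, mul_assoc (c ^ n) c x]

theorem involves_psl_of_hom {Y : Type*} [Group Y] (h4 : 4 ≤ Nat.card F) (h2 : (2 : F) ≠ 0)
    (Φ : Matrix.SpecialLinearGroup (Fin 2) F →* Y) {g : Matrix.SpecialLinearGroup (Fin 2) F} (hg : Φ g ≠ 1) :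
    Involves (Matrix.ProjectiveSpecialLinearGroup (Fin 2) F) Y := by
  have hker : Φ.ker ≤ (KleinPSL.pi F).ker := by
    intro z hz
    by_contra hz'
    exact hg (MonoidHom.mem_ker.1 ((Generic.normal_eq_top h4 h2 Φ.ker ⟨z, hz, hz'⟩).ge (Subgroup.mem_top g)))
  let f : Φ.range →* Matrix.ProjectiveSpecialLinearGroup (Fin 2) F :=
    (MonoidHom.liftOfSurjective Φ.rangeRestrict Φ.rangeRestrict_surjective)
      ⟨KleinPSL.pi F, fun z hz => hker (by simpa [Subtype.ext_iff] using hz)⟩
  refine Fusion.LocalModels.involves_of_surj f fun q => ?_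
  obtain ⟨z, rfl⟩ := KleinPSL.pi_surjective (F := F) q
  exact ⟨Φ.rangeRestrict z, MonoidHom.liftOfRightInverse_comp_apply _ _ _ _ z⟩

/-- A quadratic element on a minimal normal subgroup centralizes it. -/
theorem minimal_centralizes (hp5 : 5 ≤ p) (hF : Fintype.card F = p) (N A : Subgroup X) [N.Normal]
    (hcop : (Nat.card A).Coprime (Nat.card N)) (hNA : N ⊔ A = ⊤)
    (hfix : ¬ Involves (Matrix.ProjectiveSpecialLinearGroup (Fin 2) F) ↥(N ⊓ Subgroup.centralizer (A : Set X)))
    (V : Subgroup X) [V.Normal] (hVp : IsPGroup p V) (hne : V ≠ ⊥)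
    (hmin : ∀ W : Subgroup X, W.Normal → W < V → W = ⊥) {a : X} (ha : a ∈ N) (hq : Quad V a) :
    a ∈ Subgroup.centralizer (V : Set X) := by
  classical
  haveI := hVp.isNilpotent
  haveI : Nontrivial V := (Subgroup.nontrivial_iff_ne_bot V).2 hne
  -- elementary abelian
  have hab : ∀ x y : V, x * y = y * x := by
    have hlt : ⁅V, V⁆ < V := by
      refine lt_of_le_of_ne (Subgroup.commutator_le_left V V) fun he => ?_
      refine (IsSolvable.commutator_lt_top_of_nontrivial V).ne ((Subgroup.map_injective V.subtype_injective) ?_)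
      rw [Subgroup.map_subtype_commutator, he, ← MonoidHom.range_eq_map, Subgroup.range_subtype]
    have h0 := hmin _ inferInstance hlt
    intro x y
    exact Subtype.ext (commutatorElement_eq_one_iff_mul_comm.1
      (Subgroup.mem_bot.1 (h0 ▸ Subgroup.commutator_mem_commutator x.2 y.2)))
  letI : CommGroup V := { (inferInstance : Group V) with mul_comm := hab }
  have hexp : ∀ x : V, x ^ p = 1 := by
    let Ω : Subgroup X := (powMonoidHom p : V →* V).ker.map V.subtype
    have hΩn : Ω.Normal := ⟨by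
      rintro _ ⟨x, hx, rfl⟩ g
      refine ⟨⟨g * x * g⁻¹, (inferInstance : V.Normal).conj_mem _ x.2 g⟩, ?_, rfl⟩
      refine Subtype.ext ?_
      have hx' : (x : X) ^ p = 1 := congrArg Subtype.val hx
      show (g * (x : X) * g⁻¹) ^ p = 1
      rw [conj_pow, hx']; group⟩
    rcases (Subgroup.map_subtype_le (powMonoidHom p : V →* V).ker : Ω ≤ V).eq_or_lt with h | h
    · intro x
      obtain ⟨y, hy, e⟩ := h.ge x.2
      rw [← show y = x from Subtype.ext e]
      exact hy
    · exfalso
      have h0 := hmin Ω hΩn h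
      obtain ⟨n, hn⟩ := hVp.exists_card_eq
      have hd : p ∣ Nat.card V := by
        rcases n with _ | n
        · exfalso; have := Finite.one_lt_card (α := V); rw [pow_zero] at hn; omega
        · rw [hn]; exact dvd_pow_self p (Nat.succ_ne_zero n)
      obtain ⟨z, hz⟩ := exists_prime_orderOf_dvd_card' p hd
      have hz1 : (z : X) ∈ Ω := ⟨z, by
        show z ^ p = 1
        rw [← hz]; exact pow_orderOf_eq_one z, rfl⟩
      rw [h0, Subgroup.mem_bot] at hz1
      rw [show z = 1 from Subtype.ext hz1, orderOf_one] at hz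
      exact hp.out.ne_one hz.symm
  haveI : Module (ZMod p) (Additive V) := AddCommGroup.zmodModule fun x => by
    rw [← ofMul_toMul x, ← ofMul_pow, hexp, ofMul_one]
  -- the representation
  let ρ₀ : X →* Module.End (ZMod p) (Additive V) :=
    { toFun := fun g => (MonoidHom.toAdditive (MulAut.conjNormal g : MulAut V).toMonoidHom).toZModLinearMap p
      map_one' := by ext m; simp
      map_mul' := fun g h => by ext m; simp }
  let ρ : X →* LinearMap.GeneralLinearGroup (ZMod p) (Additive V) := ρ₀.toHomUnits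
  have hρ : ∀ g (m : Additive V), ((Units.val (ρ g)) m).toMul.1 = g * m.toMul.1 * g⁻¹ := fun g m => MulAut.conjNormal_apply g m.toMul
  have hext : ∀ m m' : Additive V, m.toMul.1 = m'.toMul.1 → m = m' := fun m m' h =>
    Additive.toMul.injective (Subtype.ext h)
  haveI : Finite (Additive V) := inferInstanceAs (Finite V)
  haveI : Nontrivial (Additive V) := inferInstanceAs (Nontrivial V)
  by_contra hna
  set x := op (ρ a) with hx
  have hxval : ∀ m : Additive V, (x m).toMul.1 = a * m.toMul.1 * a⁻¹ * (m.toMul.1)⁻¹ := fun m => by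
    show ((Units.val (ρ a)) m - m).toMul.1 = _
    rw [toMul_sub, Subgroup.coe_div, hρ, div_eq_mul_inv]
  have hxx : x * x = 0 := LinearMap.ext fun m => hext _ _ (by
    rw [Module.End.mul_apply, hxval]
    have hc := hq _ m.toMul.2
    rw [← hxval] at hc
    rw [LinearMap.zero_apply, toMul_zero, Subgroup.coe_one, hc.eq, mul_inv_cancel_right, mul_inv_cancel])
  have hx0 : x ≠ 0 := fun h => hna (fun v hv => by
    have := hxval (Additive.ofMul ⟨v, hv⟩)
    rw [h, LinearMap.zero_apply, toMul_zero, Subgroup.coe_one, toMul_ofMul] at this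
    exact (mul_inv_eq_iff_eq_mul.1 (mul_inv_eq_one.1 this.symm)).symm)
  set G := N.map ρ
  have hadm : Adm G x := adm_of_mem hxx fun c => by
    refine ⟨a ^ c.val, pow_mem ha _, Units.ext ?_⟩
    rw [map_pow, Units.val_pow_eq_pow_val, coe_ex]
    have hpow : ∀ n : ℕ, (1 + x) ^ n = 1 + n • x := by
      intro n
      induction n with
      | zero => simp
      | succ n ih =>
        rw [pow_succ, ih, add_mul, mul_add, one_mul, one_mul, smul_mul_assoc, mul_add, hxx, mul_one, succ_nsmul]
        simp only [add_zero]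
        abel
    have e1 : Units.val (ρ a) = 1 + x := by
      simp [hx, op]
    rw [e1, hpow]
    congr 1
    rw [← Nat.cast_smul_eq_nsmul (ZMod p), ZMod.natCast_zmod_val]
  obtain ⟨b, hb⟩ := exists_min hadm hx0
  have hirr : IsIrreducibleFor ((⊤ : Subgroup X).map ρ) := by
    refine ⟨exists_ne 0, fun W hW => ?_⟩
    let Y : Subgroup X := ((W.toAddSubgroup.toSubgroup' : Subgroup V)).map V.subtype
    have hYn : Y.Normal := ⟨by
      rintro _ ⟨v, hv, rfl⟩ g
      refine ⟨MulAut.conjNormal g v, ?_, MulAut.conjNormal_apply g v⟩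
      exact hW (ρ g) ⟨g, Subgroup.mem_top g, rfl⟩ (Additive.ofMul v) hv⟩
    rcases (Subgroup.map_subtype_le _ : Y ≤ V).eq_or_lt with h | h
    · refine Or.inr (eq_top_iff.2 fun m _ => ?_)
      obtain ⟨v, hv, e⟩ := h.ge m.toMul.2
      rw [show m = Additive.ofMul v from hext _ _ e.symm]
      exact hv
    · refine Or.inl ((Submodule.eq_bot_iff _).2 fun m hm => ?_)
      have : m.toMul.1 ∈ Y := ⟨m.toMul, hm, rfl⟩
      rw [hmin Y hYn h, Subgroup.mem_bot] at this
      exact hext _ _ (by rw [this, toMul_zero, Subgroup.coe_one])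
  have hnormG : (⊤ : Subgroup X).map ρ ≤ Subgroup.normalizer (G : Set _) := by
    have := Subgroup.le_normalizer_map ρ (H := N)
    rwa [Subgroup.normalizer_eq_top] at this
  have hnk : ∀ n : ℕ, 0 < n → n < p → (n : ZMod p) ≠ 0 := fun n h0 hn => by
    rw [Ne, CharP.cast_eq_zero_iff (ZMod p) p]
    exact fun hd => absurd (Nat.le_of_dvd h0 hd) (by omega)
  have S : Base G := ⟨by rw [ZMod.ringChar_zmod_n]; omega, by rw [Nat.card_zmod]; omega,
    hasComplements_of_normalized hnormG hirr⟩
  have hcop' : (Nat.card (A.map ρ)).Coprime (Nat.card G) :=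
    (hcop.coprime_dvd_left (Subgroup.card_map_dvd A ρ)).coprime_dvd_right (Subgroup.card_map_dvd N ρ)
  obtain ⟨Φ, hΦ, g, hg⟩ := exists_sl2_fixed p hp5 S hb ((Subgroup.map_mono le_top).trans hnormG) hcop'
  have h2F : (2 : ZMod p) ≠ 0 := by exact_mod_cast hnk 2 (by norm_num) (by omega)
  -- back to `X`
  have hodd : Odd (Nat.card A) :=
    Nat.Coprime.odd_of_right (hcop.coprime_dvd_right ((two_dvd_card S hb).trans (Subgroup.card_map_dvd N ρ)))
  have hmap := Cfsg.Agent.Coprime.map_inf_centralizer ρ (A := A) (K := N)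
    (by rw [Subgroup.normalizer_eq_top]; exact le_top) hcop (Or.inl (Cfsg.Agent.S0205.result hodd))
  refine hfix ?_
  haveI : CharP F p := charP_of_card_eq_prime hF
  let e : F ≃+* ZMod p := (ZMod.ringEquiv F hF).symm
  let C := N ⊓ Subgroup.centralizer (A : Set X)
  let Φ' : Matrix.SpecialLinearGroup (Fin 2) F →* ↥(C.map ρ) :=
    ((Φ.comp (Matrix.SpecialLinearGroup.map e.toRingHom)).codRestrict _ fun z => by
      rw [hmap]
      exact Subgroup.mem_inf.2 ⟨(hΦ _).1, Subgroup.mem_centralizer_iff.2 (hΦ _).2⟩)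
  refine Fusion.LocalModels.involves_of_surjective (ρ.subgroupMap C) (MonoidHom.subgroupMap_surjective ρ C) ?_
  refine involves_psl_of_hom (by rw [Nat.card_eq_fintype_card, hF]; omega) ?_ Φ'
    (g := Matrix.SpecialLinearGroup.map e.symm.toRingHom g) fun h => hg ?_
  · intro h; exact h2F (by rw [← map_ofNat e 2, h, map_zero])
  · have h' := congrArg Subtype.val h
    refine Eq.trans ?_ h'
    show Φ g = Φ _
    congr 1
    ext i j
    exact (e.apply_symm_apply (g i j)).symm

end Cfsg.Agent.QuadraticPair.Coprime
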