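import Cfsg.Agent.Lib.QuadraticPair.Coprime.FixedRoot
import Cfsg.Agent.S0205

/-!
# A coprime group acting on a group with quadratic elements fixes an image of `SL₂`
-/

set_option linter.all false
set_option autoImplicit false

namespace Cfsg.Agent.QuadraticPair.Coprime

open Cfsg Cfsg.Agent.QuadraticPair

universe u v

variable {k : Type u} [Field k] {M : Type v} [AddCommGroup M] [Module k M] [FiniteDimensional k M]
  {G : Subgroup (LinearMap.GeneralLinearGroup k M)} {a d : Module.End k M}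

theorem partGroup_cj {g : LinearMap.GeneralLinearGroup k M}
    (hg : g ∈ Subgroup.normalizer (G : Set (LinearMap.GeneralLinearGroup k M)))
    {A : Subgroup (LinearMap.GeneralLinearGroup k M)} {x : LinearMap.GeneralLinearGroup k M}
    (hx : x ∈ partGroup G A) : g * x * g⁻¹ ∈ partGroup G (conjBy A g) := by
  have : partGroup G A ≤ (partGroup G (conjBy A g)).comap (MulAut.conj g).toMonoidHom := iSup₂_le fun B hB => by
    rw [← Subgroup.map_le_iff_le_comap]
    exact le_partGroup ⟨roots_cj hg hB.1, rel_cj hg hB.2⟩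
  exact this hx

theorem spaces_of_root_eq {a b : Module.End k M} (ha : Adm G a) (hb : Adm G b) (h : root ha = root hb) :
    LinearMap.range a = LinearMap.range b ∧ LinearMap.ker a = LinearMap.ker b :=
  ⟨by rw [← commutator_root ha, h, commutator_root], by rw [← fixed_root ha, h, fixed_root]⟩

/-- The opposite in a given root is unique. -/
theorem opp_unique (S : Base G) {y y₁ y₂ : Module.End k M} (hy : Min G y) (hd : Min G d)
    (h₁ : y₁ ∈ opSpace hd.toAdm) (h₂ : y₂ ∈ opSpace hd.toAdm) (o₁ : Opp y y₁) (o₂ : Opp y y₂) : y₁ = y₂ := by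
  by_contra hne
  have hz : y₁ - y₂ ∈ opSpace hd.toAdm := sub_mem h₁ h₂
  obtain ⟨hzm, hR, hK⟩ := min_of_mem hd hz (sub_ne_zero.2 hne)
  have h0 : y * (y₁ - y₂) * y = 0 := by rw [mul_sub, sub_mul, o₁.left, o₂.left, sub_self]
  have h3 := left_zero S hy hzm h0 (y := y₁) ((opSpace_congr hd.toAdm hzm.toAdm hR hK).symm ▸ h₁)
  rw [o₁.left] at h3
  exact hy.ne h3

theorem opp_rel (S : Base G) (ha : Min G a) (hd : Min G d) (ho : Opp a d) {A : Subgroup (LinearMap.GeneralLinearGroup k M)}
    (h : root ha.toAdm ∈ part G A) :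
    root hd.toAdm ∈ part G A ∧ root ha.toAdm ⊔ root hd.toAdm ≤ partGroup G A := by
  have h' : root hd.toAdm ∈ part G A :=
    ⟨root_mem_roots hd, Rel.trans' h.2 (rel_of_aba S ha hd (by rw [ho.left]; exact ha.ne))⟩
  exact ⟨h', sup_le (le_partGroup h) (le_partGroup h')⟩

/-- A fixed image of `SL₂` in the group of a part fixed by a coprime group. -/
theorem exists_pair_fixed [Finite M] [Finite k] [Nontrivial M] (p : ℕ) [Fact p.Prime] [CharP k p] (hp5 : 5 ≤ p)
    (S : Base G) (ha : Min G a) {A : Subgroup (LinearMap.GeneralLinearGroup k M)}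
    (hAG : A ≤ Subgroup.normalizer (G : Set (LinearMap.GeneralLinearGroup k M)))
    (hpart : ∀ x ∈ A, Rel G (root ha.toAdm) (conjBy (root ha.toAdm) x))
    (hcop : (Nat.card A).Coprime (Nat.card G)) (hodd : Odd (Nat.card A)) (hsolv : Group.IsSolvable A) :
    ∃ y y', ∃ hy : Min G y, ∃ hy' : Min G y', Opp y y' ∧
      root hy.toAdm ⊔ root hy'.toAdm ≤ partGroup G (root ha.toAdm) ∧ ∀ x ∈ A, cj x y = y ∧ cj x y' = y' := by
  classical
  haveI := gl_finite (k := k) (M := M)
  set A₀ := root ha.toAdm with hA₀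
  set L := partGroup G A₀ with hL
  have hA₀part : A₀ ∈ part G A₀ := ⟨root_mem_roots ha, .refl⟩
  have hAL : A ≤ Subgroup.normalizer (L : Set (LinearMap.GeneralLinearGroup k M)) := fun x hx =>
    mem_normalizer_fin fun z hz => by
      have := partGroup_cj (hAG hx) hz
      rwa [show partGroup G (conjBy A₀ x) = L by
        rw [hL]; unfold partGroup; rw [part_eq ⟨roots_cj (hAG hx) (root_mem_roots ha), hpart x hx⟩]] at this
  have hLG : L ≤ G := partGroup_le_root.trans rootGroup_le
  have hcL : (Nat.card A).Coprime (Nat.card L) := hcop.coprime_dvd_right (Subgroup.card_dvd_of_le hLG)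
  -- a fixed root
  obtain ⟨g, hg, hfix⟩ := Cfsg.Agent.Coprime.exists_conj_invariant hAL hcL (Or.inl hsolv) (H := A₀) (fun x hx => by
    obtain ⟨l, hl, e⟩ := part_class (root_mem_roots ha) (B := conjBy A₀ x)
      ⟨roots_cj (hAG hx) (root_mem_roots ha), hpart x hx⟩
    exact ⟨l, hl, by rw [Cfsg.Agent.Coprime.conj_smul_eq_map, Cfsg.Agent.Coprime.conj_smul_eq_map]; exact e⟩)
  have hgG : g ∈ Subgroup.normalizer (G : Set (LinearMap.GeneralLinearGroup k M)) := Subgroup.le_normalizer (hLG hg)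
  rw [Cfsg.Agent.Coprime.conj_smul_eq_map, ← conjBy, root_cj hgG ha] at hfix
  set hb := min_cj hgG ha
  have hbpart : root hb.toAdm ∈ part G A₀ := by
    rw [← root_cj hgG ha]
    exact part_conj S hA₀part (partGroup_le_root hg)
  -- a fixed partner
  obtain ⟨d₀, hd₀, hod₀⟩ := exists_opp S hb
  set U := unip L (cj g a)
  have hspace : ∀ x ∈ A, LinearMap.range (cj x (cj g a)) = LinearMap.range (cj g a) ∧
      LinearMap.ker (cj x (cj g a)) = LinearMap.ker (cj g a) := fun x hx =>
    spaces_of_root_eq (min_cj (hAG hx) hb).toAdm hb.toAdm (by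
      rw [← root_cj (hAG hx) hb]; exact ThreeTransp.RankOne.conjBy_eq_iff.2 (hfix hx))
  have hAU : A ≤ Subgroup.normalizer (U : Set (LinearMap.GeneralLinearGroup k M)) := fun x hx =>
    unip_normalized (hAL hx) (hspace x hx).1 (hspace x hx).2
  have hUL : U ≤ L := fun x hx => (mem_unip.1 hx).1
  obtain ⟨u, hu, hfix'⟩ := Cfsg.Agent.Coprime.exists_conj_invariant hAU
    (hcL.coprime_dvd_right (Subgroup.card_dvd_of_le hUL))
    (Or.inl hsolv) (H := root hd₀.toAdm) (fun x hx => by
      have hd' := min_cj (hAG hx) hd₀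
      have hmem : cj g a ∈ opSpace (min_cj (hAG hx) hb).toAdm := by
        rw [opSpace_congr hb.toAdm _ (hspace x hx).1 (hspace x hx).2]; exact self_mem_opSpace _
      obtain ⟨y', hy', ho', -, -⟩ := exists_opp_mem S (min_cj (hAG hx) hb) hd' (opp_cj x hod₀) hmem hb.ne
      have hy'0 : y' ≠ 0 := fun e => hb.ne (by rw [← ho'.left, e, mul_zero, zero_mul])
      obtain ⟨hym, hR, hK⟩ := min_of_mem hd' hy' hy'0
      obtain ⟨w, hw, hwe⟩ := exists_conj_opp p hp5 (L := L) hb hd₀ hym hod₀ ho'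
        (opp_rel S hb hd₀ hod₀ hbpart).2 (opp_rel S hb hym ho' hbpart).2
      have hwG : w ∈ Subgroup.normalizer (G : Set (LinearMap.GeneralLinearGroup k M)) :=
        Subgroup.le_normalizer (hLG (hUL hw))
      refine ⟨w, hw, ?_⟩
      rw [Cfsg.Agent.Coprime.conj_smul_eq_map, Cfsg.Agent.Coprime.conj_smul_eq_map, ← conjBy, ← conjBy,
        root_cj (hAG hx) hd₀, root_cj hwG hd₀, ← root_eq_of_mem hd' hy' hy'0]
      congr 1
      exact hwe.symm)
  have huG : u ∈ Subgroup.normalizer (G : Set (LinearMap.GeneralLinearGroup k M)) :=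
    Subgroup.le_normalizer (hLG (hUL hu))
  rw [Cfsg.Agent.Coprime.conj_smul_eq_map, ← conjBy, root_cj huG hd₀] at hfix'
  set hd := min_cj huG hd₀
  have hod : Opp (cj g a) (cj u d₀) := by
    have := opp_cj u hod₀
    rwa [unip_cj_self hu] at this
  -- a fixed element
  obtain ⟨e, he, he1, hfe⟩ := exists_fixed_elt S hb hd hod (opp_rel S hb hd hod hbpart).2 hAL hfix hfix' hcL hodd hsolv
  have he0 : op e ≠ 0 := fun h0 => he1 (Units.ext (by simpa [op, sub_eq_zero] using h0))
  obtain ⟨hy, hyR, hyK⟩ := min_of_mem hb (mem_root.1 he) he0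
  obtain ⟨y', hy'm, hoy, -, -⟩ := exists_opp_mem S hb hd hod (mem_root.1 he) he0
  have hy'0 : y' ≠ 0 := fun e => hy.ne (by rw [← hoy.left, e, mul_zero, zero_mul])
  obtain ⟨hy', -, -⟩ := min_of_mem hd hy'm hy'0
  refine ⟨op e, y', hy, hy', hoy, ?_, fun x hx => ?_⟩
  · rw [root_eq_of_mem hb (mem_root.1 he) he0, root_eq_of_mem hd hy'm hy'0]
    exact (opp_rel S hb hd hod hbpart).2
  · have h1 : cj x (op e) = op e := by rw [← op_conj, hfe x hx, mul_inv_cancel_right]
    refine ⟨h1, opp_unique S hy hd ?_ hy'm (h1 ▸ opp_cj x hoy) hoy⟩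
    have hr : root (min_cj (hAG hx) hd).toAdm = root hd.toAdm := by
      rw [← root_cj (hAG hx) hd]; exact ThreeTransp.RankOne.conjBy_eq_iff.2 (hfix' hx)
    obtain ⟨r1, r2⟩ := spaces_of_root_eq _ _ hr
    rw [← opSpace_congr hd.toAdm (min_cj (hAG hx) hd).toAdm r1 r2]
    exact opSpace_cj (hAG hx) hd.toAdm _ hy'm

/-- The theorem. -/
theorem exists_sl2_fixed [Finite M] [Finite k] [Nontrivial M] (p : ℕ) [Fact p.Prime] [CharP k p] (hp5 : 5 ≤ p)
    (S : Base G) (ha : Min G a) {A : Subgroup (LinearMap.GeneralLinearGroup k M)}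
    (hAG : A ≤ Subgroup.normalizer (G : Set (LinearMap.GeneralLinearGroup k M)))
    (hcop : (Nat.card A).Coprime (Nat.card G)) :
    ∃ Φ : Matrix.SpecialLinearGroup (Fin 2) k →* LinearMap.GeneralLinearGroup k M,
      (∀ g, Φ g ∈ G ∧ ∀ x ∈ A, x * Φ g = Φ g * x) ∧ ∃ g, Φ g ≠ 1 := by
  classical
  haveI := gl_finite (k := k) (M := M)
  have hodd : Odd (Nat.card A) := odd_card_of_coprime (ha := ha) S hcop
  set A₀ := root ha.toAdm
  let AL : Subgroup (LinearMap.GeneralLinearGroup k M) :=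
    { carrier := {x | x ∈ A ∧ Rel G A₀ (conjBy A₀ x)}
      one_mem' := ⟨one_mem _, by rw [ThreeTransp.RankOne.conjBy_one]; exact .refl⟩
      mul_mem' := fun {x y} ⟨hx, hx'⟩ ⟨hy, hy'⟩ => ⟨mul_mem hx hy, by
        rw [← ThreeTransp.RankOne.conjBy_conjBy]
        exact hx'.trans' (rel_cj (hAG hx) hy')⟩
      inv_mem' := fun {x} ⟨hx, hx'⟩ => ⟨inv_mem hx, by
        have := rel_cj (hAG (inv_mem hx)) hx'
        rw [ThreeTransp.RankOne.conjBy_conjBy, inv_mul_cancel, ThreeTransp.RankOne.conjBy_one] at this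
        exact this.symm⟩ }
  have hALA : AL ≤ A := fun x hx => hx.1
  have hoddL : Odd (Nat.card AL) := hodd.of_dvd_nat (Subgroup.card_dvd_of_le hALA)
  obtain ⟨y, y', hy, hy', ho, hle, hfix⟩ := exists_pair_fixed p hp5 S ha (hALA.trans hAG) (fun x hx => hx.2)
    (hcop.coprime_dvd_left (Subgroup.card_dvd_of_le hALA)) hoddL (Cfsg.Agent.S0205.result hoddL)
  set ψ := sl2Hom hy.sq hy'.sq ho
  set L := partGroup G A₀
  have hψL : ∀ g, ψ g ∈ L := fun g => hle (sl2Hom_le hy hy' ho ⟨g, rfl⟩)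
  have hLG : L ≤ G := partGroup_le_root.trans rootGroup_le
  have hψfix : ∀ s ∈ AL, ∀ g, s * ψ g * s⁻¹ = ψ g := fun s hs g => by
    rw [sl2Hom_commute hy.sq hy'.sq ho (hfix s hs).1 (hfix s hs).2 g, mul_inv_cancel_right]
  have hcomm : ∀ b ∈ A, b ∉ AL → ∀ l ∈ L, ∀ l' ∈ L, Commute l (b * l' * b⁻¹) := by
    intro b hb hbn l hl l' hl'
    have := Cfsg.Agent.ThreeTransp.RankOne.commutator_eq_bot_iff.1
      (part_group_commute S (A := A₀) (B := conjBy A₀ b) fun h => hbn ⟨hb, h⟩)
    exact this l hl _ (partGroup_cj (hAG hb) hl')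
  let Q := A ⧸ AL.subgroupOf A
  haveI : Fintype Q := Fintype.ofFinite Q
  let r : Q → LinearMap.GeneralLinearGroup k M := fun q => ((Quotient.out q : A) : LinearMap.GeneralLinearGroup k M)
  have hr : ∀ q q', q ≠ q' → (r q)⁻¹ * r q' ∉ AL := fun q q' hne h => hne (by
    rw [← Quotient.out_eq q, ← Quotient.out_eq q']
    exact QuotientGroup.eq.2 (show (Quotient.out q)⁻¹ * Quotient.out q' ∈ AL.subgroupOf A from h))
  let ψq : Q → Matrix.SpecialLinearGroup (Fin 2) k →* LinearMap.GeneralLinearGroup k M :=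
    fun q => (MulAut.conj (r q)).toMonoidHom.comp ψ
  have hpw : Pairwise fun i j => ∀ x y, Commute (ψq i x) (ψq j y) := by
    intro i j hij x z
    have h := hcomm ((r i)⁻¹ * r j) (mul_mem (inv_mem (Quotient.out i).2) (Quotient.out j).2) (hr i j hij)
      (ψ x) (hψL x) (ψ z) (hψL z)
    have := h.map (MulAut.conj (r i)).toMonoidHom
    simpa [ψq, mul_assoc] using this
  let Ψ := MonoidHom.noncommPiCoprod ψq hpw
  let D : Matrix.SpecialLinearGroup (Fin 2) k →* (Q → Matrix.SpecialLinearGroup (Fin 2) k) :=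
    { toFun := fun g _ => g, map_one' := rfl, map_mul' := fun _ _ => rfl }
  refine ⟨Ψ.comp D, fun g => ⟨?_, fun x hx => ?_⟩, ?_⟩
  · show Ψ (D g) ∈ G
    refine Subgroup.noncommProd_mem G (fun i _ j _ h => hpw h _ _) fun q _ => ?_
    exact (Subgroup.mem_normalizer_iff.1 (hAG (Quotient.out q).2) _).1 (hLG (hψL g))
  · -- `x` permutes the factors
    let π : Q ≃ Q := MulAction.toPerm (⟨x, hx⟩ : A)
    let E : (Q → Matrix.SpecialLinearGroup (Fin 2) k) →* (Q → Matrix.SpecialLinearGroup (Fin 2) k) :=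
      { toFun := fun v q => v (π.symm q), map_one' := rfl, map_mul' := fun _ _ => rfl }
    have key : (MulAut.conj x).toMonoidHom.comp Ψ = Ψ.comp E := by
      refine MonoidHom.pi_ext fun q z => ?_
      have hE : E (Pi.mulSingle q z) = Pi.mulSingle (π q) z := funext fun q' => by
        show (Pi.mulSingle q z : Q → Matrix.SpecialLinearGroup (Fin 2) k) (π.symm q') = (Pi.mulSingle (π q) z : Q → Matrix.SpecialLinearGroup (Fin 2) k) q'
        by_cases hq : q' = π q
        · subst hq; simp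
        · rw [Pi.mulSingle_eq_of_ne hq, Pi.mulSingle_eq_of_ne fun h => hq (by rw [← h]; simp)]
      rw [MonoidHom.comp_apply, MonoidHom.comp_apply, hE, MonoidHom.noncommPiCoprod_mulSingle,
        MonoidHom.noncommPiCoprod_mulSingle]
      show x * (r q * ψ z * (r q)⁻¹) * x⁻¹ = r (π q) * ψ z * (r (π q))⁻¹
      have hs : (r (π q))⁻¹ * (x * r q) ∈ AL := by
        have e : (((Quotient.out (π q) : A)) : A ⧸ AL.subgroupOf A) = ((⟨x, hx⟩ * Quotient.out q : A) : A ⧸ AL.subgroupOf A) := by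
          rw [← smul_eq_mul, ← MulAction.Quotient.smul_coe]
          simp [π]
        have h2 := QuotientGroup.eq.1 e
        exact h2
      calc x * (r q * ψ z * (r q)⁻¹) * x⁻¹
          = r (π q) * ((r (π q))⁻¹ * (x * r q) * ψ z * ((r (π q))⁻¹ * (x * r q))⁻¹) * (r (π q))⁻¹ := by group
        _ = _ := by rw [hψfix _ hs z]
    have h := DFunLike.congr_fun key (D g)
    have hED : E (D g) = D g := rfl
    rw [MonoidHom.comp_apply, MonoidHom.comp_apply, hED] at h
    simpa [mul_inv_eq_iff_eq_mul] using h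
  · refine ⟨Generic.up 1, fun h1 => ?_⟩
    let q₀ : Q := ((1 : A) : A ⧸ AL.subgroupOf A)
    have hr0 : r q₀ ∈ AL := by
      have e : ((Quotient.out q₀ : A) : A ⧸ AL.subgroupOf A) = ((1 : A) : A ⧸ AL.subgroupOf A) := Quotient.out_eq q₀
      have := QuotientGroup.eq.1 e
      rw [mul_one, inv_mem_iff] at this
      exact this
    have h0 : ∀ z, ψq q₀ z = ψ z := fun z => hψfix _ hr0 z
    have hsplit : D (Generic.up 1) = Pi.mulSingle q₀ (Generic.up (1 : k)) * Function.update (D (Generic.up 1)) q₀ 1 := by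
      funext q
      by_cases hq : q = q₀
      · subst hq; simp [D]
      · simp [D, hq]
    rw [MonoidHom.comp_apply, hsplit, map_mul, MonoidHom.noncommPiCoprod_mulSingle, h0] at h1
    have hmem : Ψ (Function.update (D (Generic.up 1)) q₀ 1) ∈ Subgroup.centralizer (L : Set _) := by
      refine Subgroup.noncommProd_mem _ (fun i _ j _ h => hpw h _ _) fun q _ => ?_
      by_cases hq : q = q₀
      · subst hq; rw [Function.update_self, map_one]; exact one_mem _
      · intro l hl
        rw [Function.update_of_ne hq]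
        have h := hcomm ((r q₀)⁻¹ * r q) (mul_mem (inv_mem (Quotient.out q₀).2) (Quotient.out q).2)
          (hr q₀ q (Ne.symm hq)) ((r q₀)⁻¹ * l * r q₀) ?_ (ψ (Generic.up 1)) (hψL _)
        · have := h.map (MulAut.conj (r q₀)).toMonoidHom
          simpa [ψq, D, mul_assoc, Commute, SemiconjBy] using this
        · have := partGroup_cj (hAG (inv_mem (hALA hr0))) hl
          rw [inv_inv, show partGroup G (conjBy A₀ (r q₀)⁻¹) = L by
            unfold partGroup; rw [part_eq ⟨roots_cj (hAG (inv_mem (hALA hr0))) (root_mem_roots ha), (inv_mem hr0 : _ ∈ AL).2⟩]; rfl] at this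
          exact this
    have hc : Commute (ψ (Generic.up 1)) (ψ (Generic.low 1)) := by
      rw [eq_inv_of_mul_eq_one_left h1]
      exact (Commute.inv_left (Subgroup.mem_centralizer_iff.1 hmem _ (hψL _)).symm)
    have hu : ψ (Generic.up 1) = ex hy.sq (1 : k) := Units.ext (by rw [coe_sl2Hom, coe_ex]; simp [Generic.up]; abel)
    have hl : ψ (Generic.low 1) = ex hy'.sq (1 : k) := Units.ext (by rw [coe_sl2Hom, coe_ex]; simp [Generic.low]; abel)
    rw [hu, hl] at hc
    have hh : y * y' = y' * y := by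
      have := commute_iff.1 hc.eq
      rwa [op_ex, op_ex, one_smul, one_smul] at this
    exact hy.ne (by rw [← ho.left, hh, mul_assoc, hy.sq, mul_zero])

end Cfsg.Agent.QuadraticPair.Coprime
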