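import Mathlib

/-!
# Square roots in a unital square closed space of units
-/

set_option linter.all false
set_option autoImplicit false

namespace Cfsg.Agent.QuadraticPair.Coprime

variable {F : Type*} [Field F] {R : Type*} [Ring R] [Algebra F R]

theorem prod_mem (h2 : (2 : F) ≠ 0) (J : Submodule F R) (hsq : ∀ x ∈ J, x * x ∈ J) {x y : R} (hx : x ∈ J)
    (hy : y ∈ J) : x * y + y * x ∈ J ∧ (Commute x y → x * y ∈ J) := by
  have h : x * y + y * x ∈ J := by
    have e : x * y + y * x = (x + y) * (x + y) - x * x - y * y := by noncomm_ring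
    rw [e]
    exact J.sub_mem (J.sub_mem (hsq _ (J.add_mem hx hy)) (hsq _ hx)) (hsq _ hy)
  refine ⟨h, fun hc => ?_⟩
  have e : x * y = (2 : F)⁻¹ • (x * y + y * x) := by
    rw [← hc.eq, ← two_smul F (x * y), inv_smul_smul₀ h2]
  rw [e]
  exact J.smul_mem _ h

set_option maxHeartbeats 400000 in
/-- Two members of a square closed unital space of units with the same square differ by a sign. -/
theorem eq_or_eq_neg_of_sq_eq [Finite R] [Nontrivial R] (h2 : (2 : F) ≠ 0) (J : Submodule F R) (h1 : (1 : R) ∈ J)
    (hsq : ∀ x ∈ J, x * x ∈ J) (hunit : ∀ x ∈ J, x ≠ 0 → IsUnit x) {u t : R} (hu : u ∈ J) (ht : t ∈ J)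
    (h : u * u = t * t) : t = u ∨ t = -u := by
  classical
  have zero_of : ∀ {x y : R}, x ∈ J → x * y = 0 → x = 0 ∨ y = 0 := fun {x y} hx hxy =>
    (em (x = 0)).imp id fun hne => (hunit x hx hne).mul_right_eq_zero.1 hxy
  suffices hc : Commute u t by
    have e : (t - u) * (t + u) = 0 := by
      rw [sub_mul, mul_add, mul_add, ← h, hc.eq]; abel
    rcases zero_of (J.sub_mem ht hu) e with e | e
    · exact Or.inl (sub_eq_zero.1 e)
    · exact Or.inr (eq_neg_of_add_eq_zero_left e)
  rcases eq_or_ne u 0 with rfl | hu0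
  · exact Commute.zero_left t
  set c := u * u with hcdef
  set z := u * t + t * u with hzdef
  have cu : Commute c u := (Commute.refl u).mul_left (Commute.refl u)
  have ct : Commute c t := by rw [h]; exact (Commute.refl t).mul_left (Commute.refl t)
  have zu : Commute z u := by
    show (u * t + t * u) * u = u * (u * t + t * u)
    rw [add_mul, mul_add, mul_assoc t u u, ← hcdef, ← mul_assoc u u t, ← hcdef, ← ct.eq, mul_assoc u t u]
    abel
  have zt : Commute z t := by
    show (u * t + t * u) * t = t * (u * t + t * u)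
    rw [add_mul, mul_add, mul_assoc u t t, ← h, ← mul_assoc t t u, ← h, mul_assoc t u t, ← mul_assoc u u u]
    abel
  have cz : Commute c z :=
    (cu.mul_right ct).add_right (ct.mul_right cu)
  let k := Algebra.adjoin F ({c, z} : Set R)
  let Cn := Subalgebra.centralizer F ({u, t, c, z} : Set R)
  have hkC : k ≤ Cn := Algebra.adjoin_le (by
    intro x hx
    rw [SetLike.mem_coe, Subalgebra.mem_centralizer_iff]
    rintro g (rfl | rfl | rfl | rfl) <;> rcases hx with rfl | rfl
    exacts [cu.symm.eq, zu.symm.eq, ct.symm.eq, zt.symm.eq, rfl, cz.eq, cz.symm.eq, rfl])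
  have hcomm : ∀ x ∈ k, Commute x u ∧ Commute x t ∧ ∀ y ∈ k, Commute x y := by
    intro x hx
    have hm := Subalgebra.mem_centralizer_iff F |>.1 (hkC hx)
    refine ⟨(hm u (by simp)).symm, (hm t (by simp)).symm, fun y hy => ?_⟩
    have hyC : y ∈ Subalgebra.centralizer F ({x} : Set R) :=
      Algebra.adjoin_le (S := Subalgebra.centralizer F ({x} : Set R)) (by
        intro w hw
        rw [SetLike.mem_coe, Subalgebra.mem_centralizer_iff]
        rintro g rfl
        exact (hm w (by rcases hw with rfl | rfl <;> simp)).symm) hy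
    exact (Subalgebra.mem_centralizer_iff F).1 hyC x rfl
  have hkJ : ∀ x ∈ k, x ∈ J := by
    intro x hx
    induction hx using Algebra.adjoin_induction with
    | mem w hw =>
      rcases hw with rfl | rfl
      exacts [hsq u hu, (prod_mem h2 J hsq hu ht).1]
    | algebraMap r => rw [Algebra.algebraMap_eq_smul_one]; exact J.smul_mem r h1
    | add a b _ _ iha ihb => exact J.add_mem iha ihb
    | mul a b ha hb iha ihb => exact (prod_mem h2 J hsq iha ihb).2 ((hcomm a ha).2.2 b hb)
  letI : CommRing k :=
    { (inferInstance : Ring k) with mul_comm := fun a b => Subtype.ext ((hcomm a a.2).2.2 b b.2).eq }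
  haveI : NoZeroDivisors k := ⟨fun {a b} e => by
    rcases zero_of (hkJ a a.2) (congrArg Subtype.val e) with e | e
    · exact Or.inl (Subtype.ext e)
    · exact Or.inr (Subtype.ext e)⟩
  haveI : IsDomain k := NoZeroDivisors.to_isDomain k
  letI := Fintype.ofFinite k
  letI := Fintype.fieldOfDomain k
  have hodd : Fintype.card k % 2 = 1 := FiniteField.odd_card_of_char_ne_two fun h' => h2 (by
    have e : ((2 : ℕ) : k) = 0 := by rw [← h']; exact ringChar.Nat.cast_ringChar
    refine (smul_eq_zero.1 (?_ : (2 : F) • (1 : k) = 0)).resolve_right one_ne_zero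
    rw [← e]; simp [two_smul, one_add_one_eq_two])
  let cc : k := ⟨c, Algebra.subset_adjoin (by simp)⟩
  let zz : k := ⟨z, Algebra.subset_adjoin (by simp)⟩
  have hcc : cc ≠ 0 := fun e => hu0 (by
    rcases zero_of hu (congrArg Subtype.val e) with e | e <;> exact e)
  open Polynomial in
  obtain ⟨β, γ, hβ⟩ := FiniteField.exists_root_sum_quadratic
    (f := C cc * X ^ 2 + C zz * X + C cc) (g := -(X ^ 2 : k[X]))
    (degree_quadratic hcc) (by rw [degree_neg, degree_X_pow]; rfl) hodd
  simp only [Polynomial.eval_add, Polynomial.eval_mul, Polynomial.eval_C, Polynomial.eval_pow, Polynomial.eval_X,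
    Polynomial.eval_neg] at hβ
  have hβ' : (γ : R) * γ = c * ((β : R) * β) + z * β + c := by
    have e : γ * γ = cc * (β * β) + zz * β + cc := by linear_combination -hβ
    exact congrArg Subtype.val e
  obtain ⟨bu, bt, bk⟩ := hcomm β β.2
  obtain ⟨gu, gt, gk⟩ := hcomm γ γ.2
  set b : R := (β : R)
  set g : R := (γ : R)
  set x := u + b * t with hx
  have hxJ : x ∈ J := J.add_mem hu ((prod_mem h2 J hsq (hkJ _ β.2) ht).2 bt)
  have hxg : Commute g x := gu.add_right ((gk _ β.2).mul_right gt)
  have e : (x - g) * (x + g) = 0 := by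
    have xx : x * x = g * g := by
      have h' : x * x = u * u + b * (u * t + t * u) + (b * b) * (t * t) := by
        rw [hx, add_mul, mul_add, mul_add, ← mul_assoc u b t, ← bu.eq, mul_assoc b t (b * t), ← mul_assoc t b t,
          ← bt.eq, mul_assoc b t t, mul_assoc b t u, mul_assoc b u t, mul_add b, mul_assoc b b]
        abel
      rw [h', ← h, ← hcdef, ← hzdef, hβ', ((hcomm c (Algebra.subset_adjoin (by simp))).2.2 _ (mul_mem β.2 β.2)).eq,
        (bk z (Algebra.subset_adjoin (by simp))).eq]
      abel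
    rw [← hxg.symm.mul_self_sub_mul_self_eq', xx, sub_self]
  have hcase : ∃ s : R, Commute s u ∧ Commute s t ∧ u + b * t = s := by
    rcases zero_of (J.sub_mem hxJ (hkJ _ γ.2)) e with e | e
    · exact ⟨g, gu, gt, sub_eq_zero.1 e⟩
    · exact ⟨-g, gu.neg_left, gt.neg_left, eq_neg_of_add_eq_zero_left e⟩
  obtain ⟨s, su, st, hs⟩ := hcase
  rcases eq_or_ne b 0 with hb | hb
  · rw [hb, zero_mul, add_zero] at hs
    exact hs ▸ st
  · have hbt : Commute u (b * t) := by
      rw [show b * t = s - u by rw [← hs]; abel]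
      exact su.symm.sub_right (Commute.refl u)
    exact (hunit b (hkJ _ β.2) hb).mul_left_cancel (by
      calc b * (u * t) = u * (b * t) := by rw [← mul_assoc, bu.eq, mul_assoc]
        _ = b * (t * u) := by rw [hbt.eq, mul_assoc])

end Cfsg.Agent.QuadraticPair.Coprime
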