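import Cfsg.Agent.Lib.QuadraticPair.Coprime.Roots
import Cfsg.Agent.Lib.QuadraticPair.Coprime.SquareRoot
import Cfsg.Agent.Lib.Coprime.Action

/-!
# Conjugacy of the partners of a root, and the size of the orbits on a root
-/

set_option linter.all false
set_option autoImplicit false

namespace Cfsg.Agent.QuadraticPair.Coprime

open Cfsg Cfsg.Agent.QuadraticPair

universe u

/-- In a finite group one inclusion gives membership in the normalizer. -/
theorem mem_normalizer_fin {H : Type*} [Group H] [Finite H] {K : Subgroup H} {g : H}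
    (h : ∀ x ∈ K, g * x * g⁻¹ ∈ K) : g ∈ Subgroup.normalizer (K : Set H) := by
  refine ThreeTransp.RankOne.conjBy_eq_iff.1 (Subgroup.eq_of_le_of_card_ge ?_ (Eq.le ?_))
  · rintro _ ⟨x, hx, rfl⟩; exact h x hx
  · exact Nat.card_congr (K.equivMapOfInjective (MulAut.conj g).toMonoidHom (MulAut.conj g).injective).toEquiv

/-- An orbit stable under a coprime solvable group has a fixed member. -/
theorem exists_conj_fixed {H : Type*} [Group H] [Finite H] {A T : Subgroup H}
    (hAT : A ≤ Subgroup.normalizer (T : Set H)) (hcop : (Nat.card A).Coprime (Nat.card T))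
    (hsolv : Group.IsSolvable A ∨ Group.IsSolvable T) {e : H}
    (horb : ∀ a ∈ A, ∃ t ∈ T, a * e * a⁻¹ = t * e * t⁻¹) :
    ∃ t ∈ T, ∀ a ∈ A, a * (t * e * t⁻¹) = (t * e * t⁻¹) * a := by
  let M := Subgroup.centralizer ({e} : Set H) ⊓ (T ⊔ A)
  have hM : T ⊔ M = T ⊔ A := by
    refine le_antisymm (sup_le le_sup_left inf_le_right) (sup_le le_sup_left fun a ha => ?_)
    obtain ⟨t, ht, he⟩ := horb a ha
    have hm : t⁻¹ * a ∈ M := Subgroup.mem_inf.2 ⟨Subgroup.mem_centralizer_singleton_iff.2 (by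
      calc t⁻¹ * a * e = t⁻¹ * (a * e * a⁻¹) * a := by group
        _ = e * (t⁻¹ * a) := by rw [he]; group),
      mul_mem (Subgroup.mem_sup_left (inv_mem ht)) (Subgroup.mem_sup_right ha)⟩
    simpa [mul_assoc] using Subgroup.mul_mem_sup ht hm
  obtain ⟨t, ht, hle⟩ := Cfsg.Agent.Coprime.exists_le_conj_smul hAT hcop hsolv hM
  refine ⟨t, ht, fun a ha => ?_⟩
  have h := Subgroup.mem_centralizer_singleton_iff.1 ((Cfsg.Agent.Coprime.mem_conj_smul.1 (hle ha)).1)
  calc a * (t * e * t⁻¹) = t * (t⁻¹ * a * t * e) * t⁻¹ := by group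
    _ = t * e * t⁻¹ * a := by rw [h]; group

variable {k : Type u} [Field k] {M : Type*} [AddCommGroup M] [Module k M] [FiniteDimensional k M]
  {G : Subgroup (LinearMap.GeneralLinearGroup k M)} {a d d₁ d₂ : Module.End k M}

theorem gl_finite [Finite M] : Finite (LinearMap.GeneralLinearGroup k M) :=
  haveI : Finite (Module.End k M) := Finite.of_injective _ DFunLike.coe_injective
  Finite.of_injective _ Units.val_injective

/-- The elements trivial on the factors of `M ≥ ker a ≥ range a ≥ 0`. -/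
def unip [Finite M] (L : Subgroup (LinearMap.GeneralLinearGroup k M)) (a : Module.End k M) :
    Subgroup (LinearMap.GeneralLinearGroup k M) :=
  haveI := gl_finite (k := k) (M := M)
  let S : Set (LinearMap.GeneralLinearGroup k M) :=
    {u | u ∈ L ∧ a * op u = 0 ∧ op u * a = 0 ∧ ∀ m, a m = 0 → op u m ∈ LinearMap.range a}
  have hmul : ∀ {u v}, u ∈ S → v ∈ S → u * v ∈ S := fun {u v} ⟨h0, h1, h2, h3⟩ ⟨g0, g1, g2, g3⟩ => by
    have e : op (u * v) = op u * op v + (op u + op v) := by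
      simp only [op, Units.val_mul, sub_mul, mul_sub, one_mul, mul_one]; abel
    refine ⟨mul_mem h0 g0, ?_, ?_, fun m hm => ?_⟩
    · rw [e, mul_add, mul_add, ← mul_assoc, h1, g1, zero_mul]; simp
    · rw [e, add_mul, add_mul, mul_assoc, g2, h2, mul_zero]; simp
    · rw [e, LinearMap.add_apply, LinearMap.add_apply, Module.End.mul_apply]
      obtain ⟨w, hw⟩ := g3 m hm
      refine add_mem ?_ (add_mem (h3 m hm) (g3 m hm))
      rw [← hw, ← Module.End.mul_apply, h2]
      exact zero_mem _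
  have hone : (1 : LinearMap.GeneralLinearGroup k M) ∈ S := ⟨one_mem _, by simp [op], by simp [op], fun m _ => by simp [op]⟩
  { carrier := S
    one_mem' := hone
    mul_mem' := hmul
    inv_mem' := fun {u} hu => by
      rw [show u⁻¹ = u ^ (orderOf u - 1) from inv_eq_of_mul_eq_one_right (by
        rw [← pow_succ', Nat.sub_add_cancel (orderOf_pos u), pow_orderOf_eq_one])]
      induction orderOf u - 1 with
      | zero => simpa using hone
      | succ n ih => rw [pow_succ]; exact hmul ih hu }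

theorem mem_unip [Finite M] {L : Subgroup (LinearMap.GeneralLinearGroup k M)} {u : LinearMap.GeneralLinearGroup k M} :
    u ∈ unip L a ↔ u ∈ L ∧ a * op u = 0 ∧ op u * a = 0 ∧ ∀ m, a m = 0 → op u m ∈ LinearMap.range a :=
  Iff.rfl

theorem unip_cj_self [Finite M] {L : Subgroup (LinearMap.GeneralLinearGroup k M)} {u : LinearMap.GeneralLinearGroup k M}
    (hu : u ∈ unip L a) : cj u a = a := by
  obtain ⟨-, h1, h2, -⟩ := hu
  have e1 : (u : Module.End k M) * a = a := by simpa [op, sub_mul, sub_eq_zero] using h2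
  have e2 : a * (u : Module.End k M) = a := by simpa [op, mul_sub, sub_eq_zero] using h1
  calc cj u a = a * ((u⁻¹ : LinearMap.GeneralLinearGroup k M) : Module.End k M) := by rw [cj, e1]
    _ = a * (u : Module.End k M) * ((u⁻¹ : LinearMap.GeneralLinearGroup k M) : Module.End k M) := by rw [e2]
    _ = a := by simp [mul_assoc]

theorem unip_normalized [Finite M] {L : Subgroup (LinearMap.GeneralLinearGroup k M)}
    {g : LinearMap.GeneralLinearGroup k M} (hg : g ∈ Subgroup.normalizer (L : Set (LinearMap.GeneralLinearGroup k M)))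
    (hR : LinearMap.range (cj g a) = LinearMap.range a) (hK : LinearMap.ker (cj g a) = LinearMap.ker a) :
    g ∈ Subgroup.normalizer ((unip L a : Subgroup _) : Set (LinearMap.GeneralLinearGroup k M)) := by
  haveI := gl_finite (k := k) (M := M)
  refine mem_normalizer_fin fun u ⟨h0, h1, h2, h3⟩ => ⟨(Subgroup.mem_normalizer_iff.1 hg _).1 h0, ?_, ?_, fun m hm => ?_⟩
  · rw [op_conj]
    exact eq_zero_right hK.le (by rw [← cj_mul, h1, cj_zero])
  · rw [op_conj]
    exact eq_zero_left hR.ge (by rw [← cj_mul, h2, cj_zero])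
  · rw [op_conj, ← hR]
    have h0' : (g : Module.End k M) (a (((g⁻¹ : LinearMap.GeneralLinearGroup k M) : Module.End k M) m)) = 0 :=
      LinearMap.mem_ker.1 (hK.ge hm)
    have h' := congrArg ((g⁻¹ : LinearMap.GeneralLinearGroup k M) : Module.End k M) h0'
    rw [← Module.End.mul_apply, Units.inv_mul, Module.End.one_apply, map_zero] at h'
    obtain ⟨w, hw⟩ := h3 _ h'
    refine ⟨(g : Module.End k M) w, ?_⟩
    simp only [cj, Module.End.mul_apply]
    rw [← hw, ← Module.End.mul_apply _ (g : Module.End k M), Units.inv_mul, Module.End.one_apply]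

theorem unip_pGroup [Finite M] (p : ℕ) [hp : Fact p.Prime] [CharP k p] (hp3 : 3 ≤ p) [Nontrivial M]
    (L : Subgroup (LinearMap.GeneralLinearGroup k M)) (ha : a * a = 0) : IsPGroup p (unip L a) := by
  rintro ⟨u, -, h1, h2, h3⟩
  refine ⟨1, Subtype.ext ?_⟩
  show u ^ p ^ 1 = 1
  haveI : CharP (Module.End k M) p := charP_of_injective_algebraMap (algebraMap k (Module.End k M)).injective p
  rw [pow_one]
  refine Units.ext ?_
  have e3 : op u ^ 3 = 0 := by
    refine LinearMap.ext fun m => ?_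
    have hm : a (op u m) = 0 := LinearMap.congr_fun h1 m
    obtain ⟨w, hw⟩ := h3 _ hm
    rw [pow_succ', pow_two, Module.End.mul_apply, Module.End.mul_apply, ← hw, ← Module.End.mul_apply, h2]
    simp
  have he : op u ^ p = 0 := pow_eq_zero_of_le hp3 e3
  have hu : (u : Module.End k M) = 1 + op u := by simp [op]
  rw [Units.val_pow_eq_pow_val, hu, add_pow_char_of_commute p (Commute.one_left _), one_pow, he, add_zero,
    Units.val_one]

/-- Inverting an eigen relation. -/
theorem inv_eigen {g : LinearMap.GeneralLinearGroup k M} {c : k} (hc : c ≠ 0) :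
    ((g : Module.End k M) * a = c • a → ((g⁻¹ : LinearMap.GeneralLinearGroup k M) : Module.End k M) * a = c⁻¹ • a) ∧
    (a * (g : Module.End k M) = c • a → a * ((g⁻¹ : LinearMap.GeneralLinearGroup k M) : Module.End k M) = c⁻¹ • a) := by
  constructor <;> intro h
  · have e := congrArg (((g⁻¹ : LinearMap.GeneralLinearGroup k M) : Module.End k M) * ·) h
    simp only [← mul_assoc, Units.inv_mul, one_mul, mul_smul_comm] at e
    conv_rhs => rw [e]
    rw [inv_smul_smul₀ hc]
  · have e := congrArg (· * ((g⁻¹ : LinearMap.GeneralLinearGroup k M) : Module.End k M)) h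
    simp only [mul_assoc, Units.mul_inv, mul_one, smul_mul_assoc] at e
    conv_rhs => rw [e]
    rw [inv_smul_smul₀ hc]

/-- The diagonal matrix. -/
def dia {c : k} (hc : c ≠ 0) : Matrix.SpecialLinearGroup (Fin 2) k :=
  ⟨!![c, 0; 0, c⁻¹], by simp [Matrix.det_fin_two, hc]⟩

theorem dia_pow [Finite k] {c : k} (hc : c ≠ 0) : dia hc ^ (Nat.card k - 1) = 1 := by
  letI := Fintype.ofFinite k
  rw [Nat.card_eq_fintype_card]
  have e : ∀ n : ℕ, ((dia hc ^ n : Matrix.SpecialLinearGroup (Fin 2) k) : Matrix (Fin 2) (Fin 2) k) =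
      !![c ^ n, 0; 0, c⁻¹ ^ n] := by
    intro n
    induction n with
    | zero => rw [pow_zero]; ext i j; fin_cases i <;> fin_cases j <;> simp
    | succ n ih =>
      rw [pow_succ, Matrix.SpecialLinearGroup.coe_mul, ih, dia]
      ext i j; fin_cases i <;> fin_cases j <;> simp [Matrix.mul_apply, pow_succ]
  refine Matrix.SpecialLinearGroup.ext _ _ fun i j => ?_
  rw [e, Matrix.SpecialLinearGroup.coe_one]
  fin_cases i <;> fin_cases j <;> simp [FiniteField.pow_card_sub_one_eq_one c hc]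

/-- Two tori of opposites with the same value have the same opposite. -/
theorem opp_eq_of_torus (ha : a * a = 0) (hd₁ : d₁ * d₁ = 0) (hd₂ : d₂ * d₂ = 0) (h₁ : Opp a d₁) (h₂ : Opp a d₂)
    {c : k} (hc : c ≠ 0) (hc1 : c ≠ 1) (hc2 : c * c ≠ 1)
    (h : sl2Hom ha hd₁ h₁ (dia hc) = sl2Hom ha hd₂ h₂ (dia hc)) : d₁ = d₂ := by
  have hv : ∀ {d : Module.End k M} (hd : d * d = 0) (ho : Opp a d),
      (sl2Hom ha hd ho (dia hc) : Module.End k M) - 1 = (c - 1) • (a * d) + (c⁻¹ - 1) • (d * a) := by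
    intro d hd ho
    rw [coe_sl2Hom]; simp [dia]; module
  have e : (c - 1) • (a * d₁) + (c⁻¹ - 1) • (d₁ * a) = (c - 1) • (a * d₂) + (c⁻¹ - 1) • (d₂ * a) := by
    rw [← hv hd₁ h₁, ← hv hd₂ h₂, h]
  have sq : ∀ {d : Module.End k M} (hd : d * d = 0) (ho : Opp a d),
      ((c - 1) • (a * d) + (c⁻¹ - 1) • (d * a)) * ((c - 1) • (a * d) + (c⁻¹ - 1) • (d * a)) =
        ((c - 1) * (c - 1)) • (a * d) + ((c⁻¹ - 1) * (c⁻¹ - 1)) • (d * a) := by
    intro d hd ho
    have z1 : a * d * (d * a) = 0 := by rw [mul_assoc, ← mul_assoc d d a, hd]; simp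
    have z2 : d * a * (a * d) = 0 := by rw [mul_assoc, ← mul_assoc a a d, ha]; simp
    simp [add_mul, mul_add, smul_mul_smul_comm, smul_smul, z1, z2, ← mul_assoc (a * d) a d, ← mul_assoc (d * a) d a, ho.left, ho.right]
  have e2 := congrArg (fun X => X * X) e
  simp only [sq hd₁ h₁, sq hd₂ h₂] at e2
  have hne : (c - 1) - (c⁻¹ - 1) ≠ 0 := by
    intro h0
    refine hc2 ?_
    have : c = c⁻¹ := by linear_combination h0
    calc c * c = c⁻¹ * c := by rw [← this]
      _ = 1 := inv_mul_cancel₀ hc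
  have hP : a * d₁ = a * d₂ := by
    have : ((c - 1) * ((c - 1) - (c⁻¹ - 1))) • (a * d₁ - a * d₂) = 0 := by
      linear_combination (norm := module) e2 - congrArg (fun X => (c⁻¹ - 1) • X) e
    exact sub_eq_zero.1 ((smul_eq_zero.1 this).resolve_left (mul_ne_zero (sub_ne_zero.2 hc1) hne))
  have hQ : d₁ * a = d₂ * a := by
    rw [hP] at e
    exact smul_right_injective _ (sub_ne_zero.2 fun h0 => hc1 (inv_eq_one.1 h0)) (add_left_cancel e)
  calc d₁ = d₁ * a * d₁ := h₁.right.symm
    _ = d₂ * (a * d₁) := by rw [hQ, mul_assoc]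
    _ = d₂ := by rw [hP, ← mul_assoc, h₂.right]

/-- The opposites of a root are conjugate under the unipotent group. -/
theorem exists_conj_opp [Finite M] [Finite k] [Nontrivial M] (p : ℕ) [Fact p.Prime] [CharP k p] (hp5 : 5 ≤ p)
    {L : Subgroup (LinearMap.GeneralLinearGroup k M)} (ha : Min G a) (hd₁ : Min G d₁) (hd₂ : Min G d₂)
    (h₁ : Opp a d₁) (h₂ : Opp a d₂) (hL₁ : root ha.toAdm ⊔ root hd₁.toAdm ≤ L)
    (hL₂ : root ha.toAdm ⊔ root hd₂.toAdm ≤ L) : ∃ u ∈ unip L a, cj u d₁ = d₂ := by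
  haveI := gl_finite (k := k) (M := M)
  have hne : ∀ n : ℕ, 0 < n → n < p → (n : k) ≠ 0 := fun n h0 hn => by
    rw [Ne, CharP.cast_eq_zero_iff k p]
    exact fun hd => absurd (Nat.le_of_dvd h0 hd) (by omega)
  have hc : (2 : k) ≠ 0 := by exact_mod_cast hne 2 (by norm_num) (by omega)
  have hc1 : (2 : k) ≠ 1 := fun h => one_ne_zero (α := k) (by linear_combination h)
  have hc2 : (2 : k) * 2 ≠ 1 := fun h => (show (3 : k) ≠ 0 by exact_mod_cast hne 3 (by norm_num) (by omega))
    (by linear_combination h)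
  set h1 := sl2Hom ha.sq hd₁.sq h₁ (dia hc)
  set h2 := sl2Hom ha.sq hd₂.sq h₂ (dia hc)
  set U := unip L a
  have hLh : ∀ {d : Module.End k M} (hd : Min G d) (ho : Opp a d), root ha.toAdm ⊔ root hd.toAdm ≤ L →
      sl2Hom ha.sq hd.sq ho (dia hc) ∈ L := fun hd ho hle => hle (sl2Hom_le ha hd ho ⟨_, rfl⟩)
  have act : ∀ {d : Module.End k M} (hd : d * d = 0) (ho : Opp a d) (c : k) (hc : c ≠ 0),
      (sl2Hom ha.sq hd ho (dia hc) : Module.End k M) * a = c • a ∧
        a * (sl2Hom ha.sq hd ho (dia hc) : Module.End k M) = c⁻¹ • a := by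
    intro d hd ho c hc
    have l' : a * (d * a) = a := by rw [← mul_assoc, ho.left]
    rw [coe_sl2Hom]
    constructor <;>
      simp [dia, add_mul, sub_mul, mul_add, mul_sub, mul_assoc, ha.sq, l', sq_left ha.sq] <;> module
  have hnorm : ∀ {d : Module.End k M} (hd : Min G d) (ho : Opp a d), root ha.toAdm ⊔ root hd.toAdm ≤ L →
      Subgroup.zpowers (sl2Hom ha.sq hd.sq ho (dia hc)) ≤ Subgroup.normalizer (U : Set _) := by
    intro d hd ho hle
    rw [Subgroup.zpowers_le]
    set h := sl2Hom ha.sq hd.sq ho (dia hc) with hh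
    obtain ⟨l1, l2⟩ := act hd.sq ho 2 hc
    have hi : a * ((h⁻¹ : LinearMap.GeneralLinearGroup k M) : Module.End k M) = (2 : k) • a := by
      rw [(inv_eigen (inv_ne_zero hc)).2 l2, inv_inv]
    have e : cj h a = ((2 : k) * 2) • a := by rw [cj, l1, smul_mul_assoc, hi, smul_smul]
    have h4 : (2 : k) * 2 ≠ 0 := mul_ne_zero hc hc
    refine unip_normalized (Subgroup.le_normalizer (hLh hd ho hle)) ?_ ?_
    · rw [e, LinearMap.range_smul _ _ h4]
    · rw [e, LinearMap.ker_smul _ _ h4]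
  have hdiff : h2 * h1⁻¹ ∈ U := by
    refine ⟨mul_mem (hLh hd₂ h₂ hL₂) (inv_mem (hLh hd₁ h₁ hL₁)), ?_⟩
    obtain ⟨r2, l2⟩ := act hd₂.sq h₂ 2 hc
    obtain ⟨r1, l1⟩ := act hd₁.sq h₁ 2 hc
    have e : op (h2 * h1⁻¹) = ((h2 : Module.End k M) - (h1 : Module.End k M)) *
        ((h1⁻¹ : LinearMap.GeneralLinearGroup k M) : Module.End k M) := by simp [op, sub_mul]
    have i1 : ((h1⁻¹ : LinearMap.GeneralLinearGroup k M) : Module.End k M) * a = (2 : k)⁻¹ • a :=
      (inv_eigen hc).1 r1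
    refine ⟨?_, ?_, fun m hm => ?_⟩
    · rw [e, ← mul_assoc, mul_sub, l1, l2, sub_self, zero_mul]
    · rw [e, mul_assoc, i1, mul_smul_comm, sub_mul, r1, r2, sub_self, smul_zero]
    · rw [e, Module.End.mul_apply]
      set w := ((h1⁻¹ : LinearMap.GeneralLinearGroup k M) : Module.End k M) m
      have hw : a w = 0 := by
        have h' : (2 : k)⁻¹ • a w = 0 := by
          rw [← LinearMap.smul_apply, ← l1, Module.End.mul_apply, ← Module.End.mul_apply (h1 : Module.End k M),
            Units.mul_inv, Module.End.one_apply, hm]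
        exact (smul_eq_zero.1 h').resolve_left (inv_ne_zero hc)
      rw [LinearMap.sub_apply]
      have hin : ∀ {d : Module.End k M} (hd : d * d = 0) (ho : Opp a d),
          (sl2Hom ha.sq hd ho (dia hc) : Module.End k M) w - w ∈ LinearMap.range a := by
        intro d hd ho
        refine ⟨((2 : k) - 1) • d w, ?_⟩
        rw [coe_sl2Hom]
        simp [dia, hw]
        module
      have := sub_mem (hin hd₂.sq h₂) (hin hd₁.sq h₁)
      rwa [sub_sub_sub_cancel_right] at this
  have hzp : ∀ g : LinearMap.GeneralLinearGroup k M, g ^ (Nat.card k - 1) = 1 →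
      (Nat.card U).Coprime (Nat.card (Subgroup.zpowers g)) := by
    intro g hg
    obtain ⟨n, hn⟩ := (unip_pGroup p (by omega) L ha.sq).exists_card_eq
    rw [Nat.card_zpowers, hn]
    refine Nat.Coprime.pow_left n (Nat.Coprime.coprime_dvd_right (orderOf_dvd_of_pow_eq_one hg) ?_)
    rw [Nat.Prime.coprime_iff_not_dvd Fact.out]
    intro hd
    letI := Fintype.ofFinite k
    have hk : p ∣ Nat.card k := by
      rw [Nat.card_eq_fintype_card, ← CharP.cast_eq_zero_iff k p]
      exact FiniteField.cast_card_eq_zero k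
    have h1k := Finite.one_lt_card (α := k)
    have := Nat.dvd_sub hk hd
    rw [show Nat.card k - (Nat.card k - 1) = 1 by omega, Nat.dvd_one] at this
    omega
  have hp1 : h1 ^ (Nat.card k - 1) = 1 := by rw [← map_pow, dia_pow, map_one]
  have hp2 : h2 ^ (Nat.card k - 1) = 1 := by rw [← map_pow, dia_pow, map_one]
  have hsup : U ⊔ Subgroup.zpowers h1 = U ⊔ Subgroup.zpowers h2 := by
    refine le_antisymm (sup_le le_sup_left (Subgroup.zpowers_le.2 ?_)) (sup_le le_sup_left (Subgroup.zpowers_le.2 ?_))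
    · simpa using Subgroup.mul_mem_sup (inv_mem hdiff) (Subgroup.mem_zpowers h2)
    · simpa [mul_assoc] using Subgroup.mul_mem_sup hdiff (Subgroup.mem_zpowers h1)
  obtain ⟨x, hx, hxe⟩ := Cfsg.Agent.Coprime.exists_conj_eq_of_sup_eq (hnorm hd₁ h₁ hL₁) (hnorm hd₂ h₂ hL₂) hsup
    (hzp h1 hp1) (hzp h2 hp2) (Or.inl (Cfsg.Agent.Coprime.isSolvable_of_isPGroup (unip_pGroup p (by omega) L ha.sq)))
  have hin : x * h1 * x⁻¹ * h2⁻¹ ∈ Subgroup.zpowers h2 :=
    mul_mem (hxe ▸ Cfsg.Agent.Coprime.conj_mem_conj_smul (Subgroup.mem_zpowers h1)) (inv_mem (Subgroup.mem_zpowers h2))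
  have hinU : x * h1 * x⁻¹ * h2⁻¹ ∈ U := by
    have hn := (Subgroup.mem_normalizer_iff.1 (hnorm hd₁ h₁ hL₁ (Subgroup.mem_zpowers h1)) _).1 (inv_mem hx)
    have := mul_mem (mul_mem hx hn) (inv_mem hdiff)
    convert this using 1
    group
  have h1x : x * h1 * x⁻¹ = h2 := by
    have := (Cfsg.Agent.Coprime.disjoint_of_coprime (hzp h2 hp2)).le_bot ⟨hinU, hin⟩
    exact mul_inv_eq_one.1 (Subgroup.mem_bot.1 this)
  refine ⟨x, hx, ?_⟩
  have hca := unip_cj_self hx
  have ho : Opp a (cj x d₁) := hca ▸ opp_cj x h₁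
  refine opp_eq_of_torus ha.sq (by rw [← cj_mul, hd₁.sq, cj_zero]) hd₂.sq ho h₂ hc hc1 hc2 (Units.ext ?_)
  rw [show sl2Hom ha.sq hd₂.sq h₂ (dia hc) = x * h1 * x⁻¹ from h1x.symm]
  rw [show ((x * h1 * x⁻¹ : LinearMap.GeneralLinearGroup k M) : Module.End k M) = cj x (h1 : Module.End k M) from rfl,
    coe_sl2Hom, coe_sl2Hom]
  simp only [cj_add, cj_smul, cj_mul, hca, sub_eq_add_neg, ← neg_one_smul k (a * d₁), ← neg_one_smul k (d₁ * a),
    ← neg_one_smul k (a * cj x d₁), ← neg_one_smul k (cj x d₁ * a)]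
  simp [cj]

end Cfsg.Agent.QuadraticPair.Coprime
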