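import Cfsg.Agent.Lib.QuadraticPair.Component

/-!
# Conjugation of roots by elements normalizing the group, and the map of `SL₂` of an opposite pair
-/

set_option linter.all false
set_option autoImplicit false

namespace Cfsg.Agent.QuadraticPair.Coprime

open Cfsg Cfsg.Agent.QuadraticPair

universe u

variable {k : Type u} [Field k] {M : Type*} [AddCommGroup M] [Module k M] [FiniteDimensional k M]
  {G : Subgroup (LinearMap.GeneralLinearGroup k M)} {a d : Module.End k M}
  {g h : LinearMap.GeneralLinearGroup k M}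

/-- Conjugation of an operator. -/
def cj (g : LinearMap.GeneralLinearGroup k M) (x : Module.End k M) : Module.End k M :=
  (g : Module.End k M) * x * ((g⁻¹ : LinearMap.GeneralLinearGroup k M) : Module.End k M)

theorem cj_mul (g : LinearMap.GeneralLinearGroup k M) (x y : Module.End k M) : cj g (x * y) = cj g x * cj g y := by
  simp [cj, mul_assoc]

theorem cj_cj (g h : LinearMap.GeneralLinearGroup k M) (x : Module.End k M) : cj g (cj h x) = cj (g * h) x := by
  simp [cj, mul_assoc, mul_inv_rev]

theorem cj_inv_cj (g : LinearMap.GeneralLinearGroup k M) (x : Module.End k M) : cj g⁻¹ (cj g x) = x := by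
  simp [cj, mul_assoc]

theorem cj_cj_inv (g : LinearMap.GeneralLinearGroup k M) (x : Module.End k M) : cj g (cj g⁻¹ x) = x := by
  simp [cj, mul_assoc]

theorem cj_add (g : LinearMap.GeneralLinearGroup k M) (x y : Module.End k M) : cj g (x + y) = cj g x + cj g y := by
  simp [cj, mul_add, add_mul]

theorem cj_smul (g : LinearMap.GeneralLinearGroup k M) (c : k) (x : Module.End k M) : cj g (c • x) = c • cj g x := by
  simp [cj, mul_smul_comm, smul_mul_assoc]

theorem cj_zero (g : LinearMap.GeneralLinearGroup k M) : cj g (0 : Module.End k M) = 0 := by simp [cj]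

theorem op_conj (g x : LinearMap.GeneralLinearGroup k M) : op (g * x * g⁻¹) = cj g (op x) := by
  simp [cj, op, mul_sub, sub_mul, mul_assoc]

theorem adm_cj (hg : g ∈ Subgroup.normalizer (G : Set (LinearMap.GeneralLinearGroup k M)))
    {x : Module.End k M} (h : Adm G x) : Adm G (cj g x) := by
  refine ⟨by rw [← cj_mul, h.sq, cj_zero], fun c =>
    ⟨g * ex h.sq c * g⁻¹, (Subgroup.mem_normalizer_iff.1 hg _).1 (h.ex_mem c), ?_⟩⟩
  simp [cj, mul_add, add_mul]

theorem range_cj (g : LinearMap.GeneralLinearGroup k M) (x : Module.End k M) :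
    LinearMap.range (cj g x) = (LinearMap.range x).map (g : Module.End k M) := by
  rw [cj, Module.End.mul_eq_comp, Module.End.mul_eq_comp, LinearMap.range_comp_of_range_eq_top,
    LinearMap.range_comp]
  exact LinearMap.range_eq_top.2 fun m => ⟨(g : Module.End k M) m, by
    rw [← Module.End.mul_apply, ← Units.val_mul, inv_mul_cancel]; rfl⟩

theorem rk_cj_le (g : LinearMap.GeneralLinearGroup k M) (x : Module.End k M) : rk (cj g x) ≤ rk x := by
  show Module.finrank k (LinearMap.range (cj g x)) ≤ _
  rw [range_cj]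
  exact Submodule.finrank_map_le _ _

theorem min_cj (hg : g ∈ Subgroup.normalizer (G : Set (LinearMap.GeneralLinearGroup k M)))
    {x : Module.End k M} (h : Min G x) : Min G (cj g x) :=
  ⟨adm_cj hg h.toAdm, fun e => h.ne (by rw [← cj_inv_cj g x, e, cj_zero]),
    fun z hz hz0 => (rk_cj_le g x).trans (h.min z hz hz0)⟩

theorem opSpace_cj (hg : g ∈ Subgroup.normalizer (G : Set (LinearMap.GeneralLinearGroup k M)))
    {a y : Module.End k M} (ha : Adm G a) (ha' : Adm G (cj g a)) (hy : y ∈ opSpace ha) :
    cj g y ∈ opSpace ha' := by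
  refine ⟨adm_cj hg hy.1, ?_, fun m hm => ?_⟩
  · rw [range_cj, range_cj]
    exact Submodule.map_mono hy.2.1
  · have h0 : (g : Module.End k M) (a (((g⁻¹ : LinearMap.GeneralLinearGroup k M) : Module.End k M) m)) = 0 := hm
    have h' := congrArg ((g⁻¹ : LinearMap.GeneralLinearGroup k M) : Module.End k M) h0
    rw [← Module.End.mul_apply, Units.inv_mul, Module.End.one_apply, map_zero] at h'
    show (g : Module.End k M) (y _) = 0
    rw [LinearMap.mem_ker.1 (hy.2.2 (LinearMap.mem_ker.2 h')), map_zero]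

theorem root_cj (hg : g ∈ Subgroup.normalizer (G : Set (LinearMap.GeneralLinearGroup k M))) (ha : Min G a) :
    conjBy (root ha.toAdm) g = root (min_cj hg ha).toAdm := by
  refine le_antisymm ?_ fun x hx => ?_
  · rintro _ ⟨x, hx, rfl⟩
    show op (g * x * g⁻¹) ∈ opSpace (min_cj hg ha).toAdm
    rw [op_conj]
    exact opSpace_cj hg ha.toAdm _ hx
  · refine ⟨g⁻¹ * x * g⁻¹⁻¹, ?_, by simp [mul_assoc]⟩
    show op _ ∈ opSpace ha.toAdm
    rw [op_conj]
    have := opSpace_cj (inv_mem hg) (min_cj hg ha).toAdm (by rw [cj_inv_cj]; exact ha.toAdm) (show op x ∈ opSpace (min_cj hg ha).toAdm from hx)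
    rw [mem_opSpace] at this ⊢
    rwa [cj_inv_cj] at this

theorem roots_cj (hg : g ∈ Subgroup.normalizer (G : Set (LinearMap.GeneralLinearGroup k M)))
    {A : Subgroup (LinearMap.GeneralLinearGroup k M)} (hA : A ∈ quadraticRootSubgroups G) :
    conjBy A g ∈ quadraticRootSubgroups G := by
  obtain ⟨a, ha, rfl⟩ := exists_root hA
  rw [root_cj hg ha]
  exact root_mem_roots (min_cj hg ha)

theorem rel_cj (hg : g ∈ Subgroup.normalizer (G : Set (LinearMap.GeneralLinearGroup k M)))
    {A B : Subgroup (LinearMap.GeneralLinearGroup k M)} (h : Rel G A B) : Rel G (conjBy A g) (conjBy B g) :=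
  Relation.ReflTransGen.lift (fun C => conjBy C g) (fun C D hCD => ⟨roots_cj hg hCD.1, roots_cj hg hCD.2.1,
    RootSubgroups.Commutator.rankOne_conj hCD.2.2 g⟩) _ _ h

theorem opp_cj (g : LinearMap.GeneralLinearGroup k M) (h : Opp a d) : Opp (cj g a) (cj g d) :=
  ⟨by rw [← cj_mul, ← cj_mul, h.left], by rw [← cj_mul, ← cj_mul, h.right]⟩

/-- An element fixed by conjugation commutes. -/
theorem commute_of_cj {x : Module.End k M} (h : cj g x = x) :
    Commute (g : Module.End k M) x := by
  have := congrArg (· * (g : Module.End k M)) h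
  simpa [cj, mul_assoc, Commute, SemiconjBy] using this

/-- The map of `SL₂` attached to an opposite pair. -/
def sl2Hom (ha : a * a = 0) (hd : d * d = 0) (ho : Opp a d) :
    Matrix.SpecialLinearGroup (Fin 2) k →* LinearMap.GeneralLinearGroup k M :=
  MonoidHom.toHomUnits
    { toFun := fun g => (1 - a * d - d * a) + (g 0 0) • (a * d) + (g 0 1) • a + (g 1 0) • d + (g 1 1) • (d * a)
      map_one' := by simp; abel
      map_mul' := fun g g' => by
        rw [matrix_hom ha hd ho]
        simp [Matrix.mul_apply, Fin.sum_univ_two] }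

@[simp] theorem coe_sl2Hom (ha : a * a = 0) (hd : d * d = 0) (ho : Opp a d) (g : Matrix.SpecialLinearGroup (Fin 2) k) :
    (sl2Hom ha hd ho g : Module.End k M) =
      (1 - a * d - d * a) + (g 0 0) • (a * d) + (g 0 1) • a + (g 1 0) • d + (g 1 1) • (d * a) := rfl

theorem sl2Hom_commute (ha : a * a = 0) (hd : d * d = 0) (ho : Opp a d) (h1 : cj h a = a) (h2 : cj h d = d)
    (g : Matrix.SpecialLinearGroup (Fin 2) k) : h * sl2Hom ha hd ho g = sl2Hom ha hd ho g * h := by
  refine Units.ext ?_
  rw [Units.val_mul, Units.val_mul, coe_sl2Hom]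
  have ca := commute_of_cj h1
  have cd := commute_of_cj h2
  exact (((((Commute.one_right _).sub_right (ca.mul_right cd)).sub_right (cd.mul_right ca)).add_right
    ((ca.mul_right cd).smul_right _)).add_right (ca.smul_right _) |>.add_right (cd.smul_right _)
    |>.add_right ((cd.mul_right ca).smul_right _)).eq

theorem sl2Hom_le (ha : Min G a) (hd : Min G d) (ho : Opp a d) :
    (sl2Hom ha.sq hd.sq ho).range ≤ root ha.toAdm ⊔ root hd.toAdm := by
  rw [MonoidHom.range_eq_map, Subgroup.map_le_iff_le_comap]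
  refine (Generic.eq_top_of_up_low _ (fun c => Subgroup.mem_comap.2 ?_) (fun c => Subgroup.mem_comap.2 ?_)).ge
  · rw [show sl2Hom ha.sq hd.sq ho (Generic.up c) = ex ha.sq c from Units.ext (by rw [coe_sl2Hom, coe_ex]; simp [Generic.up]; abel)]
    exact Subgroup.mem_sup_left (ex_mem_root _ (self_mem_opSpace _) c)
  · rw [show sl2Hom ha.sq hd.sq ho (Generic.low c) = ex hd.sq c from Units.ext (by rw [coe_sl2Hom, coe_ex]; simp [Generic.low]; abel)]
    exact Subgroup.mem_sup_right (ex_mem_root _ (self_mem_opSpace _) c)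

theorem sl2Hom_ne (ha : Min G a) (hd : Min G d) (ho : Opp a d) (h2 : (2 : k) ≠ 0) :
    sl2Hom ha.sq hd.sq ho (-1) ≠ 1 ∧ sl2Hom ha.sq hd.sq ho (-1) * sl2Hom ha.sq hd.sq ho (-1) = 1 := by
  refine ⟨fun e => ?_, by rw [← map_mul, neg_one_mul, neg_neg, map_one]⟩
  have h := congrArg (fun u : LinearMap.GeneralLinearGroup k M => (u : Module.End k M) * a) e
  have l' : a * (d * a) = a := by rw [← mul_assoc, ho.left]
  simp [add_mul, sub_mul, mul_assoc, ha.sq, l'] at h
  refine ha.ne ((smul_eq_zero.1 (?_ : (2 : k) • a = 0)).resolve_left h2)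
  rw [two_smul]
  linear_combination (norm := abel) -h

/-- The group of roots has even order. -/
theorem two_dvd_card [Finite M] (S : Base G) (ha : Min G a) : 2 ∣ Nat.card G := by
  haveI : Finite (Module.End k M) := Finite.of_injective _ DFunLike.coe_injective
  haveI : Finite (LinearMap.GeneralLinearGroup k M) := Finite.of_injective _ Units.val_injective
  obtain ⟨d, hd, ho⟩ := exists_opp S ha
  obtain ⟨h1, h2⟩ := sl2Hom_ne ha hd ho (two_ne S.two)
  set z := sl2Hom ha.sq hd.sq ho (-1)
  have hz : z ∈ G := (sup_le (root_le _) (root_le _) : root ha.toAdm ⊔ root hd.toAdm ≤ G)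
    (sl2Hom_le ha hd ho ⟨_, rfl⟩)
  rw [← orderOf_eq_prime (p := 2) (by rw [pow_two]; exact h2) h1, ← Nat.card_zpowers]
  exact Subgroup.card_dvd_of_le (Subgroup.zpowers_le.2 hz)

/-- An odd coprime group. -/
theorem odd_card_of_coprime [Finite M] (S : Base G) {ha : Min G a} {A : Subgroup (LinearMap.GeneralLinearGroup k M)}
    (hcop : (Nat.card A).Coprime (Nat.card G)) : Odd (Nat.card A) :=
  Nat.Coprime.odd_of_right (hcop.coprime_dvd_right (two_dvd_card S ha))

end Cfsg.Agent.QuadraticPair.Coprime
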