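import Cfsg.Agent.Lib.QuadraticPair.Coprime.Linear
import Cfsg.Agent.Lib.PLocal.ZJ
import Cfsg.Agent.InvChar.PConstrained

/-!
# Stability from fixed points of a coprime group, and `ZJ`
-/

set_option linter.all false
set_option autoImplicit false

namespace Cfsg.Agent.QuadraticPair.Coprime

open Cfsg Cfsg.Agent.PLocal Subgroup

universe u v

/-- The image of the fixed points, when the kernel part is solvable or the acting group is. -/
theorem map_fixed {X Y : Type*} [Group X] [Finite X] [Group Y] (f : X →* Y) (N A : Subgroup X) [N.Normal]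
    (hcop : (Nat.card A).Coprime (Nat.card N))
    (hsolv : Group.IsSolvable A ∨ Group.IsSolvable (N ⊓ f.ker : Subgroup X)) :
    (N ⊓ centralizer (A : Set X)).map f = N.map f ⊓ centralizer ((A.map f : Subgroup Y) : Set Y) := by
  refine le_antisymm (le_inf (map_mono inf_le_left) ?_) ?_
  · rintro _ ⟨x, hx, rfl⟩
    rw [mem_centralizer_iff]
    rintro _ ⟨a, ha, rfl⟩
    rw [← map_mul, ← map_mul, mem_centralizer_iff.1 hx.2 a ha]
  · rintro _ ⟨⟨k, hk, rfl⟩, hc⟩
    obtain ⟨n, hn, hkn⟩ := Cfsg.Agent.Coprime.exists_fixed_in_coset (A := A) (N := N ⊓ f.ker)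
      (by rw [normalizer_eq_top]; exact le_top) (hcop.coprime_dvd_right (card_dvd_of_le inf_le_left)) hsolv (k := k)
      (fun a ha => by
        refine mem_inf.2 ⟨mul_mem (inv_mem hk) ((inferInstance : N.Normal).conj_mem k hk a), ?_⟩
        rw [MonoidHom.mem_ker, map_mul, map_mul, map_mul, map_inv, map_inv,
          mem_centralizer_iff.1 hc (f a) ⟨a, ha, rfl⟩]
        group)
    refine ⟨k * n, ⟨mul_mem hk hn.1, hkn⟩, ?_⟩
    rw [map_mul, show f n = 1 from hn.2, mul_one]

variable {X : Type u} [Group X] [Finite X] {p : ℕ} [hp : Fact p.Prime] {F : Type v} [Field F] [Fintype F]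

/-- The preimage of the `p`-core of the group induced on `P`. -/
def stabCore (p : ℕ) (P : Subgroup X) [P.Normal] : Subgroup X :=
  (pCore p (X ⧸ centralizer (P : Set X))).comap (QuotientGroup.mk' _)

theorem quad_of_commutator {P : Subgroup X} {a : X} (h : ⁅⁅P, zpowers a⁆, zpowers a⁆ = ⊥) : Quad P a := by
  intro x hx
  rw [commutator_eq_bot_iff_le_centralizer] at h
  have h1 := h (inv_mem (commutator_mem_commutator hx (mem_zpowers a)))
  have h2 := mem_centralizer_iff.1 h1 a (mem_zpowers a)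
  rw [commutatorElement_def, show (x * a * x⁻¹ * a⁻¹)⁻¹ = a * x * a⁻¹ * x⁻¹ by group] at h2
  exact h2

theorem pow_commute {a x : X} (h : Commute a (a * x * a⁻¹ * x⁻¹)) {n : ℕ} (hn : (a * x * a⁻¹ * x⁻¹) ^ n = 1) :
    Commute (a ^ n) x := by
  have := quad_pow h n
  rw [hn, one_mul] at this
  exact mul_inv_eq_iff_eq_mul.1 this

theorem isPGroup_stab (P : Subgroup X) [P.Normal] {D : Subgroup X}
    (h : ∀ d ∈ D, ∃ i : ℕ, d ^ p ^ i ∈ centralizer (P : Set X)) [D.Normal] : D ≤ stabCore p P := by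
  rw [stabCore, ← map_le_iff_le_comap]
  haveI : (D.map (QuotientGroup.mk' (centralizer (P : Set X)))).Normal :=
    Normal.map inferInstance _ (QuotientGroup.mk'_surjective _)
  refine Cores.le_pCore ?_
  rintro ⟨_, d, hd, rfl⟩
  obtain ⟨i, hi⟩ := h d hd
  refine ⟨i, Subtype.ext ?_⟩
  show (QuotientGroup.mk' _ d) ^ p ^ i = 1
  rw [← map_pow]
  exact (QuotientGroup.eq_one_iff _).2 hi

theorem stab_pow (P : Subgroup X) [P.Normal] {d : X} (h : d ∈ stabCore p P) :
    ∃ i : ℕ, d ^ p ^ i ∈ centralizer (P : Set X) := by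
  obtain ⟨i, hi⟩ := Cores.isPGroup_pCore (⟨_, h⟩ : pCore p (X ⧸ centralizer (P : Set X)))
  refine ⟨i, (QuotientGroup.eq_one_iff _).1 ?_⟩
  exact congrArg Subtype.val hi

theorem stable_aux (hp5 : 5 ≤ p) (hF : Fintype.card F = p) (N A : Subgroup X) [N.Normal]
    (hcop : (Nat.card A).Coprime (Nat.card N)) (hNA : N ⊔ A = ⊤)
    (hfix : ¬ Involves (Matrix.ProjectiveSpecialLinearGroup (Fin 2) F) ↥(N ⊓ centralizer (A : Set X))) :
    ∀ n : ℕ, ∀ P : Subgroup X, ∀ [P.Normal], Nat.card P = n → IsPGroup p P → ∀ a ∈ N, Quad P a →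
      a ∈ stabCore p P := by
  intro n
  induction n using Nat.strong_induction_on with
  | _ n IH =>
  intro P hPn hn hP a ha hq
  haveI := hPn
  rcases eq_or_ne P ⊥ with rfl | hne
  · refine isPGroup_stab ⊥ (D := ⊤) (fun d _ => ⟨0, ?_⟩) (mem_top a)
    intro y hy
    rw [show y = 1 from mem_bot.1 hy]; simp
  obtain ⟨P₁, ⟨hP₁n, hP₁lt⟩, hmax⟩ := (wellFounded_gt (α := Subgroup X)).has_min {W | W.Normal ∧ W < P}
    ⟨⊥, inferInstance, bot_lt_iff_ne_bot.2 hne⟩
  haveI := hP₁n
  have hP₁ : IsPGroup p P₁ := hP.to_le hP₁lt.le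
  have hq₁ : Quad P₁ a := fun x hx => hq x (hP₁lt.le hx)
  have h1 : a ∈ stabCore p P₁ := IH _ (hn ▸ Set.ncard_lt_ncard (SetLike.coe_ssubset_coe.2 hP₁lt) (Set.toFinite _))
    P₁ rfl hP₁ a ha hq₁
  set f := QuotientGroup.mk' P₁
  have hf := QuotientGroup.mk'_surjective P₁
  haveI : (N.map f).Normal := Normal.map inferInstance f hf
  haveI : (P.map f).Normal := Normal.map inferInstance f hf
  have hcop' : (Nat.card (A.map f)).Coprime (Nat.card (N.map f)) :=
    (hcop.coprime_dvd_left (card_map_dvd A f)).coprime_dvd_right (card_map_dvd N f)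
  have h2 : f a ∈ centralizer ((P.map f : Subgroup (X ⧸ P₁)) : Set (X ⧸ P₁)) := by
    refine minimal_centralizes hp5 hF (N.map f) (A.map f) hcop' ?_ ?_ (P.map f) (hP.map f) ?_ ?_ ⟨a, ha, rfl⟩ ?_
    · rw [← Subgroup.map_sup, hNA, map_top_of_surjective f hf]
    · intro h
      refine hfix ?_
      have hsol : Group.IsSolvable (N ⊓ f.ker : Subgroup X) :=
        Cfsg.Agent.Coprime.isSolvable_of_isPGroup (hP₁.to_le (by rw [QuotientGroup.ker_mk']; exact inf_le_right))
      rw [← map_fixed f N A hcop (Or.inr hsol)] at h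
      exact Fusion.LocalModels.involves_of_surjective (f.subgroupMap _) (MonoidHom.subgroupMap_surjective f _) h
    · intro h
      rw [Subgroup.map_eq_bot_iff, QuotientGroup.ker_mk'] at h
      exact hP₁lt.not_ge h
    · intro W hW hlt
      haveI : (W.comap f).Normal := hW.comap f
      have hle : P₁ ≤ W.comap f := fun x hx => by
        show f x ∈ W
        rw [show f x = 1 from (QuotientGroup.eq_one_iff x).2 hx]; exact one_mem W
      have hlt' : W.comap f < P := by
        have e : (P.map f).comap f = P := by rw [comap_map_eq_self]; rw [QuotientGroup.ker_mk']; exact hP₁lt.le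
        rw [← e]
        exact (comap_lt_comap_of_surjective hf).2 hlt
      have e : W.comap f = P₁ := (eq_of_le_of_not_lt hle (hmax _ ⟨inferInstance, hlt'⟩)).symm
      rw [← map_comap_eq_self_of_surjective hf W, e]
      exact QuotientGroup.map_mk'_self P₁
    · rintro _ ⟨x, hx, rfl⟩
      have := (hq x hx).map f
      simpa using this
  -- combine
  set C₂ := (centralizer ((P.map f : Subgroup (X ⧸ P₁)) : Set (X ⧸ P₁))).comap f
  haveI : C₂.Normal := Normal.comap inferInstance f
  haveI : (stabCore p P₁).Normal := Normal.comap inferInstance _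
  refine isPGroup_stab P (D := stabCore p P₁ ⊓ C₂) (fun d hd => ?_) ⟨h1, h2⟩
  obtain ⟨i, hi⟩ := stab_pow P₁ hd.1
  obtain ⟨m, hm⟩ := hP₁.exists_card_eq
  refine ⟨i + m, fun x hx => ?_⟩
  rw [pow_add, pow_mul]
  set y := d ^ p ^ i
  have hc : y * x * y⁻¹ * x⁻¹ ∈ P₁ := by
    have hy : f y ∈ centralizer ((P.map f : Subgroup (X ⧸ P₁)) : Set (X ⧸ P₁)) := pow_mem hd.2 _
    have h := mem_centralizer_iff.1 hy (f x) ⟨x, hx, rfl⟩
    rw [← QuotientGroup.eq_one_iff]
    show f (y * x * y⁻¹ * x⁻¹) = 1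
    rw [map_mul, map_mul, map_mul, map_inv, map_inv, ← h]; group
  refine (pow_commute (n := p ^ m) ?_ ?_).symm.eq
  · exact (mem_centralizer_iff.1 hi _ hc).symm
  · rw [← hm]
    exact congrArg Subtype.val (pow_card_eq_one' (x := (⟨_, hc⟩ : P₁)))

/-- Every quadratic element lies in the preimage of the `p`-core. -/
theorem stable (hp5 : 5 ≤ p) (hF : Fintype.card F = p) (N A : Subgroup X) [N.Normal]
    (hcop : (Nat.card A).Coprime (Nat.card N)) (hpA : ¬ p ∣ Nat.card A) (hNA : N ⊔ A = ⊤)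
    (hfix : ¬ Involves (Matrix.ProjectiveSpecialLinearGroup (Fin 2) F) ↥(N ⊓ centralizer (A : Set X)))
    (P : Subgroup X) [P.Normal] (hP : IsPGroup p P) : IsPStableOn p P := by
  intro a h
  have hq := quad_of_commutator h
  set C := centralizer (P : Set X)
  obtain ⟨m, hm⟩ := hP.exists_card_eq
  have hpow : a ^ p ^ m ∈ C := fun x hx => by
    refine (pow_commute (hq x hx) ?_).symm.eq
    have hc : a * x * a⁻¹ * x⁻¹ ∈ P := mul_mem ((inferInstance : P.Normal).conj_mem x hx a) (inv_mem hx)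
    rw [← hm]
    exact congrArg Subtype.val (pow_card_eq_one' (x := (⟨_, hc⟩ : P)))
  have hidx : (N ⊔ C).index ∣ Nat.card A := by
    refine (index_dvd_of_le (le_sup_left : N ≤ N ⊔ C)).trans ?_
    set g := QuotientGroup.mk' N
    have hAtop : A.map g = ⊤ := by
      rw [← map_top_of_surjective g (QuotientGroup.mk'_surjective N), ← hNA, Subgroup.map_sup,
        show N.map g = ⊥ from QuotientGroup.map_mk'_self N, bot_sup_eq]
    rw [index, ← Subgroup.card_top (G := X ⧸ N), ← hAtop]
    exact card_map_dvd A g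
  haveI : (N ⊔ C).Normal := inferInstance
  have ha : a ∈ N ⊔ C := by
    rw [← QuotientGroup.eq_one_iff, ← orderOf_eq_one_iff]
    have h1 : orderOf ((a : X ⧸ (N ⊔ C))) ∣ p ^ m := orderOf_dvd_of_pow_eq_one (by
      rw [← QuotientGroup.mk_pow]; exact (QuotientGroup.eq_one_iff _).2 (mem_sup_right hpow))
    have h2 : orderOf ((a : X ⧸ (N ⊔ C))) ∣ Nat.card A := (_root_.orderOf_dvd_natCard _).trans hidx
    exact Nat.eq_one_of_dvd_coprimes ((hp.out.coprime_iff_not_dvd.2 hpA).pow_left m) h1 h2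
  obtain ⟨b, hb, c, hc, rfl⟩ := mem_sup_of_normal_right.1 ha
  have hbq : Quad P b := fun x hx => by
    have e : b * c * x * (b * c)⁻¹ * x⁻¹ = b * x * b⁻¹ * x⁻¹ := by
      rw [mul_assoc b c x, ← mem_centralizer_iff.1 hc x hx]; group
    have h' := hq x hx
    rw [e] at h'
    have hcd : Commute c (b * x * b⁻¹ * x⁻¹) :=
      (mem_centralizer_iff.1 hc _ (mul_mem ((inferInstance : P.Normal).conj_mem x hx b) (inv_mem hx))).symm
    simpa using h'.mul_left hcd.inv_left
  have := stable_aux hp5 hF N A hcop hNA hfix _ P rfl hP b hb hbq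
  show QuotientGroup.mk' C (b * c) ∈ pCore p (X ⧸ C)
  rw [map_mul, show QuotientGroup.mk' C c = 1 from (QuotientGroup.eq_one_iff c).2 hc, mul_one]
  exact this

/-- The `ZJ` subgroup of the normal part is normal. -/
theorem zj_normal {K : Type*} [Group K] [Finite K] (hp5 : 5 ≤ p) (hF : Fintype.card F = p) (j : K →* X)
    (hj : Function.Injective j) (A : Subgroup X) [j.range.Normal] (hcop : (Nat.card A).Coprime (Nat.card K))
    (hpA : ¬ p ∣ Nat.card A) (hNA : j.range ⊔ A = ⊤)
    (hfix : ¬ Involves (Matrix.ProjectiveSpecialLinearGroup (Fin 2) F) ↥(j.range ⊓ centralizer (A : Set X)))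
    (hc : centralizer (pCore p K : Set K) ≤ pCore p K) (S : Sylow p K) :
    (MaxAbelian.core 0 (S : Subgroup K)).Normal := by
  set N := j.range with hN
  have hcop' : (Nat.card A).Coprime (Nat.card N) := by
    rwa [← Nat.card_congr (MonoidHom.ofInjective hj).toEquiv]
  have hst := fun (P : Subgroup X) [P.Normal] (hP : IsPGroup p P) => stable hp5 hF N A hcop' hpA hNA hfix P hP
  -- `O_p` of the normal part
  set Q := (pCore p K).map j
  have hQN : Q ≤ N := map_le_range j _
  have hQeq : Q = (pCore p N).map N.subtype := by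
    let e := MonoidHom.ofInjective hj
    refine le_antisymm ?_ ?_
    · rintro _ ⟨x, hx, rfl⟩
      refine ⟨e x, ?_, rfl⟩
      haveI : ((pCore p K).map e.toMonoidHom).Normal := Normal.map inferInstance _ e.surjective
      exact Cores.le_pCore (Cores.isPGroup_pCore.map e.toMonoidHom) ⟨x, hx, rfl⟩
    · rintro _ ⟨y, hy, rfl⟩
      obtain ⟨x, hx⟩ := e.surjective y
      haveI : ((pCore p N).comap e.toMonoidHom).Normal := Normal.comap inferInstance _
      exact ⟨x, Cores.le_pCore (Cores.isPGroup_pCore.comap_of_injective e.toMonoidHom e.injective)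
        (show e x ∈ pCore p N from hx ▸ hy), congrArg Subtype.val hx⟩
  haveI hQn : Q.Normal := hQeq ▸ inferInstance
  have hQp : IsPGroup p Q := Cores.isPGroup_pCore.map j
  have hpN : ¬ p ∣ N.index := fun h => hpA (h.trans (by
    set g := QuotientGroup.mk' N
    have hAtop : A.map g = ⊤ := by
      rw [← map_top_of_surjective g (QuotientGroup.mk'_surjective N), ← hNA, Subgroup.map_sup,
        show N.map g = ⊥ from QuotientGroup.map_mk'_self N, bot_sup_eq]
    rw [index, ← Subgroup.card_top (G := X ⧸ N), ← hAtop]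
    exact card_map_dvd A g))
  have hTp : IsPGroup p ((S : Subgroup K).map j) := S.2.map j
  have hTidx : ¬ p ∣ ((S : Subgroup K).map j).index := by
    rw [index_map_of_injective (S : Subgroup K) hj]
    exact fun h => (hp.out.dvd_mul.1 h).elim S.not_dvd_index hpN
  let T : Sylow p X := hTp.toSylow hTidx
  have hT : (T : Subgroup X) = (S : Subgroup K).map j := rfl
  have hQT : Q ≤ T := map_mono (Cores.pCore_le_sylow S)
  have hZ : MaxAbelian.core 0 (T : Subgroup X) = (MaxAbelian.core 0 (S : Subgroup K)).map j := by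
    rw [hT, MaxAbelian.core_map 0 hj]
  -- it lies in `Q`
  have hle : MaxAbelian.core 0 (T : Subgroup X) ≤ Q := by
    intro z hz
    have hnorm : Q ≤ normalizer (MaxAbelian.core 0 (T : Subgroup X) : Set X) :=
      hQT.trans (le_normalizer.trans (MaxAbelian.normalizer_le_normalizer_core 0 _))
    have hzE : z ∈ stabCore p Q := hst Q hQp z (ZJ.quad_of_normalizes hnorm (MaxAbelian.core_comm 0 _) hz)
    haveI : (stabCore p Q).Normal := Normal.comap inferInstance _
    obtain ⟨w, hw, rfl⟩ : z ∈ N := map_le_range j _ (hZ ▸ hz)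
    haveI : ((stabCore p Q).comap j).Normal := Normal.comap inferInstance _
    refine ⟨w, Cores.le_pCore (N := (stabCore p Q).comap j) ?_ hzE, rfl⟩
    intro ⟨d, hd⟩
    obtain ⟨i, hi⟩ := stab_pow Q hd
    have hd' : d ^ p ^ i ∈ pCore p K := hc fun y hy => hj (by
      rw [map_mul, map_mul, map_pow]
      exact mem_centralizer_iff.1 hi _ ⟨y, hy, rfl⟩)
    obtain ⟨l, hl⟩ := Cores.isPGroup_pCore (⟨_, hd'⟩ : pCore p K)
    refine ⟨i + l, Subtype.ext ?_⟩
    show d ^ p ^ (i + l) = 1
    rw [pow_add, pow_mul]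
    exact congrArg Subtype.val hl
  have hn := ZJ.main (by omega) 0 hst T _ Q rfl hQn hQp
  rw [inf_eq_left.2 hle, hZ] at hn
  have := hn.comap j
  rwa [comap_map_eq_self_of_injective hj] at this

end Cfsg.Agent.QuadraticPair.Coprime
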